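import Groth.Agent.Borel50.Luna.Cartan
import Groth.Agent.Borel50.GeomTorus
import Groth.Agent.Borel50.UnipBorel
import Groth.Agent.Borel50.NormalClosure

/-!
# Centralisers of tori in reductive groups are reductive
-/

set_option autoImplicit false
universe u

open CategoryTheory MonoidalCategory CartesianMonoidalCategory MonObj GrpObj AlgebraicGeometry Limits

noncomputable section

namespace Groth.Agent.Borel50.Luna.Apps2

open Groth.Agent.Borel50.Pts Groth.Agent.Borel50.Lin Groth.Agent.Borel50.Density Groth.Agent.Borel50.GeomTorus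

attribute [local instance] ptTop

section Closed

variable {k : Type u} [Field k] [IsAlgClosed k] {G : Over (Spec (CommRingCat.of k))} [GrpObj G] [IsAffine G.left]
  [Smooth G.hom] [ConnectedSpace G.left]

/-- A maximal toral subgroup comes from a maximal torus. -/
theorem exists_maxTorus {N : ℕ} (Φ : Rep k (Pt G) N) {T : Subgroup (Pt G)} (hT : Φ.IsToral T)
    (hmax : ∀ T', Φ.IsToral T' → T ≤ T' → T' = T) :
    ∃ (K : Over (Spec (CommRingCat.of k))) (_ : GrpObj K) (i : K ⟶ G) (_ : IsMonHom i),
      AGF.IsMaxTorus i ∧ (ptHom i).range = T := by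
  have := FixedPt.qc_G G
  have : IsSeparated G.hom := GrpScheme.IdComponent.isSeparated G
  obtain ⟨K, _, i, _, _, hcl, hK, hr⟩ := Torus.exists_torus hT
  refine ⟨K, inferInstance, i, inferInstance, ⟨inferInstance, inferInstance, hK, ?_⟩, hr⟩
  intro T' _ j _ _ f hT' hf
  obtain ⟨_, _, _, _, -, -⟩ := TorusSch.torus_facts hT'
  have := GrpScheme.HomFlat.isReduced_of_smooth T'.hom
  have hle : T ≤ (ptHom j).range := by
    rw [← hr]
    rintro _ ⟨w, rfl⟩
    exact ⟨w ≫ f, show (w ≫ f) ≫ j = w ≫ i by rw [Category.assoc, hf]⟩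
  have he := hmax _ (Torus.isToral_range Φ j hT') hle
  have := hcl
  obtain ⟨l, hl⟩ := factor_of_points j i fun w => by
    obtain ⟨z, hz⟩ := (hr.symm ▸ he ▸ ⟨w, rfl⟩ : w ≫ j ∈ (ptHom i).range)
    exact mem_range_of_factor hz
  exact ⟨l, (cancel_mono i).1 (by rw [Category.assoc, hl, hf, Category.id_comp]),
    (cancel_mono j).1 (by rw [Category.assoc, hf, hl, Category.id_comp])⟩

/-- The centraliser of a torus in a reductive group has trivial unipotent radical. -/
theorem isReductiveOver_centralizer (hG : Red.IsReductiveOver k G) {S : Over (Spec (CommRingCat.of k))} [GrpObj S]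
    (iS : S ⟶ G) [IsMonHom iS] [Mono iS] (hS : Red.IsTorus S) {C : Over (Spec (CommRingCat.of k))} [GrpObj C] (c : C ⟶ G)
    [IsMonHom c] [IsClosedImmersion c.left] [Smooth C.hom] [ConnectedSpace C.left]
    (hc : (ptHom c).range = Subgroup.centralizer ((ptHom iS).range : Set (Pt G))) :
    Red.IsReductiveOver k C := by
  classical
  have : IsAffine C.left := isAffine_of_isAffineHom c.left
  refine ⟨‹_›, ‹_›, ‹_›, fun U _ i _ hcl hsm hcon hN hU => ?_⟩
  have := hcl
  have := hsm
  have := hcon
  have := FixedPt.qc_G G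
  have := FixedPt.qc_G C
  have := GrpScheme.HomFlat.isReduced_of_smooth G.hom
  have : IsClosedImmersion (i ≫ c).left := by rw [Over.comp_left]; infer_instance
  obtain ⟨N, Φ, hΦ⟩ := exists_regRep (G := G)
  obtain ⟨R, _, r, _, hR, hr⟩ := isUnipotentRadical_one hG
  have hStor := Torus.isToral_range Φ iS hS
  obtain ⟨T, hT, hST, hmax⟩ := hStor.exists_maximal
  obtain ⟨K, _, iK, _, hK, hKr⟩ := exists_maxTorus Φ hT hmax
  have hle := le_radical_pts Φ hΦ r hR iK hK (S := (ptHom (i ≫ c)).range) (Density.isPreconnected_range _)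
    (fun B _ iB _ hB hTB => by
      obtain ⟨D, _, dC, _, hD, hDr⟩ := CentBorel.exists_borel iB hB hStor
        (hST.trans (hKr ▸ hTB)) c hc
      have hle' := UnipBorel.normal_le_borel i hU hN dC hD
      rintro _ ⟨w, rfl⟩
      obtain ⟨d, hd⟩ := hle' ⟨w, rfl⟩
      have hmem : w ≫ i ≫ c ∈ (ptHom (dC ≫ c)).range := ⟨d, show d ≫ dC ≫ c = w ≫ i ≫ c by
        rw [← Category.assoc, show d ≫ dC = w ≫ i from hd, Category.assoc]⟩
      rw [hDr] at hmem
      exact hmem.1)
    ((UnipRadical.pts_facts (i ≫ c) hU).2 Φ)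
  rw [hr] at hle
  exact NormalClosure.isTrivialGrp_of_pts (i ≫ c) fun w => Subgroup.mem_bot.1 (hle ⟨w, rfl⟩)

end Closed

variable {k : Type u} [Field k] {G T C : Over (Spec (CommRingCat.of k))} [GrpObj G] [GrpObj T] [GrpObj C]

/-- The centraliser of a torus in a reductive group is reductive. -/
theorem isReductive_centralizer (hG : Red.IsReductive G) (iT : T ⟶ G) [IsMonHom iT] [Mono iT]
    (hT : Red.IsTorus T) (c : C ⟶ G) (hc : Red.IsCentralizerOf iT c) : Red.IsReductive C := by
  obtain ⟨h1, h2, h3⟩ := hG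
  have := h1
  have := h2
  have hred := h3 (cp k)
  have : IsAffine G.left := isAffine_of_isAffineHom G.hom
  have := BaseChange.surjective_g (gp k)
  have : ConnectedSpace G.left :=
    FlatMor.GeomDescent.connectedSpace_of_surjective (pullback.fst G.hom (gp k)) hred.2.2.1
  have := hc.1
  obtain ⟨hs, hcl⟩ := OverField.smooth_centralizer iT hT c hc
  obtain ⟨_, _, hcl', hsm', hT', hr⟩ := centralizer_facts iT hT c hc
  obtain ⟨-, hconn⟩ := connectedSpace_centralizer iT hT c hc
  obtain ⟨_, _, _⟩ := OverField.facts_bc (gp k) G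
  have : IsAffine C.left := isAffine_of_isAffineHom c.left
  refine ⟨isAffineHom_of_isAffine _, hs, fun s => ?_⟩
  obtain rfl : s = cp k := Subsingleton.elim (α := PrimeSpectrum k) _ _
  exact isReductiveOver_centralizer hred ((Over.pullback (gp k)).map iT) hT' ((Over.pullback (gp k)).map c) hr

end Groth.Agent.Borel50.Luna.Apps2
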