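import Groth.Agent.Borel50.Luna.Main
import Groth.Agent.Borel50.Cartan
import Groth.Agent.Borel50.Conseq

/-!
# Unipotent points of a Cartan subgroup lie, up to finite index, in the unipotent radical
-/

set_option autoImplicit false
universe u

open CategoryTheory MonoidalCategory CartesianMonoidalCategory MonObj GrpObj AlgebraicGeometry Limits
open scoped Matrix

noncomputable section

namespace Groth.Agent.Borel50.Luna

open Groth.Agent.Borel50.Pts Groth.Agent.Borel50.Lin Groth.Agent.Borel50.Density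

attribute [local instance] ptTop

variable {k : Type u} [Field k] [IsAlgClosed k] {G : Over (Spec (CommRingCat.of k))} [GrpObj G] [IsAffine G.left]
  [Smooth G.hom]

/-- The image of a closed group of rational points is closed. -/
theorem isClosed_map {Q : Over (Spec (CommRingCat.of k))} [GrpObj Q] [IsAffine Q.left] [Smooth Q.hom]
    (q : G ⟶ Q) [IsMonHom q] (S : Subgroup (Pt G)) (hS : IsClosed (S : Set (Pt G))) :
    IsClosed ((S.map (ptHom q) : Subgroup (Pt Q)) : Set (Pt Q)) := by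
  have := FixedPt.qc_G G
  have := FixedPt.qc_G Q
  obtain ⟨K, _, iK, _, _, _, _, hmem, -⟩ := exists_sub S hS
  have : QuasiCompact ((iK ≫ q).left ≫ Q.hom) := by rw [Over.w (iK ≫ q)]; infer_instance
  have : QuasiCompact (iK ≫ q).left := QuasiCompact.of_comp _ Q.hom
  have e : ((S.map (ptHom q) : Subgroup (Pt Q)) : Set (Pt Q)) = pt ⁻¹' Set.range (iK ≫ q).left := by
    ext y
    constructor
    · rintro ⟨x, hx, rfl⟩
      obtain ⟨w, rfl⟩ := (hmem x).1 hx
      exact ⟨pt w, rfl⟩
    · intro hy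
      obtain ⟨w, hw⟩ := StableProd.exists_lift_range (iK ≫ q) y hy
      exact ⟨w ≫ iK, (hmem _).2 ⟨w, rfl⟩, show (w ≫ iK) ≫ q = y by rw [Category.assoc, hw]⟩
  rw [e]
  exact (GrpScheme.ClosedImage.isClosed_range (iK ≫ q)).preimage continuous_induced_dom

variable [ConnectedSpace G.left]

/-- The decomposition of a Cartan subgroup, its unipotent part being in the radical up to finite index. -/
theorem cartan_decomp {N : ℕ} (Φ : Rep k (Pt G) N) (hΦ : IsReg Φ.ρ) {T : Over (Spec (CommRingCat.of k))} [GrpObj T]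
    (iT : T ⟶ G) [IsMonHom iT] (hT : AGF.IsMaxTorus iT) {U : Over (Spec (CommRingCat.of k))} [GrpObj U] (u : U ⟶ G)
    [IsMonHom u] (hU : Par.IsUnipotentRadical u) :
    ∃ Uc : Subgroup (Pt G), IsClosed (Uc : Set (Pt G)) ∧
      Uc ≤ Φ.centralizerComp (ptHom iT).range ∧ (∀ x ∈ Uc, IsNilpotent (Φ.ρ x - 1)) ∧
      ((ptHom u).range.subgroupOf Uc).FiniteIndex ∧
      ∀ x ∈ Φ.centralizerComp (ptHom iT).range, ∃ t ∈ (ptHom iT).range, ∃ z ∈ Uc, x = t * z := by
  classical
  have := hT.2.1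
  obtain ⟨htor, hmax⟩ := Torus.maximal_range Φ hT
  set T' := (ptHom iT).range with hT'
  set C := Φ.centralizerComp T' with hC
  have hCcl : IsClosed (C : Set (Pt G)) := Φ.isClosed_centralizerComp T'
  have : PreconnectedSpace C := Subtype.preconnectedSpace (Φ.isPreconnected_centralizerComp T')
  obtain ⟨hnil, -⟩ := cartan Φ htor hmax
  obtain ⟨d, hd⟩ : ∃ d, derivedSeries C d = ⊥ := by
    have : Group.IsNilpotent C := hnil
    have : Group.IsSolvable C := inferInstance
    exact Group.IsSolvable.solvable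
  obtain ⟨Uc, hUc⟩ := NormalClosure.exists_unipotent_subgroup Φ C hCcl (Φ.isPreconnected_centralizerComp T') hd
  have hUcl : IsClosed (Uc : Set (Pt G)) := by
    have e : (Uc : Set (Pt G)) = (C : Set (Pt G)) ∩ {x | IsNilpotent (Φ.ρ x - 1)} := Set.ext fun x => hUc x
    rw [e]
    exact hCcl.inter Φ.isClosed_isNilpotent
  refine ⟨Uc, hUcl, fun x hx => ((hUc x).1 hx).1, fun x hx => ((hUc x).1 hx).2, ?_, ?_⟩
  · let ΦU := Φ.restrict Uc hUcl
    let S : Subgroup (Pt G) := ΦU.identityComponent.map Uc.subtype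
    have hSc : _root_.IsPreconnected (S : Set (Pt G)) := Rep.isPreconnected_map_subtype isPreconnected_connectedComponent
    have hSU : S ≤ Uc := Subgroup.map_subtype_le _
    have hle := le_radical_pts Φ hΦ u hU iT hT hSc (fun B _ iB _ hB hTB x hx =>
      TorusBorel.centralizer_le iB hB htor hmax hTB (Φ.centralizerComp_le T' ((hUc x).1 (hSU hx)).1))
      (fun x hx => ((hUc x).1 (hSU hx)).2)
    have hle' : ΦU.identityComponent ≤ (ptHom u).range.subgroupOf Uc := fun x hx => hle ⟨x, hx, rfl⟩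
    have := ΦU.finiteIndex_identityComponent
    exact Subgroup.finiteIndex_of_le hle'
  · intro x hx
    obtain ⟨P, Q, hQP, hup⟩ := (Φ.restrict C hCcl).exists_upper hd
    let Ψ := (Φ.restrict C hCcl).conj P Q hQP
    obtain ⟨T₁, h₁, hcov⟩ := Ψ.exists_toral_lift hup
    obtain ⟨t, ht, he⟩ := hcov ⟨x, hx⟩
    have h₁' : Φ.IsToral (T₁.map C.subtype) := h₁.of_conj.map_subtype
    obtain ⟨T₃, hT₃, hl₁, hl₂⟩ := htor.exists_sup h₁' (by
      rintro a ha _ ⟨b, -, rfl⟩
      exact Subgroup.mem_centralizer_iff.1 (Φ.centralizerComp_le T' b.2) a ha)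
    have htT : (t : Pt G) ∈ T' := (hmax T₃ hT₃ hl₁).le (hl₂ ⟨t, ht, rfl⟩)
    refine ⟨t, htT, (t : Pt G)⁻¹ * x, ?_, by rw [mul_inv_cancel_left]⟩
    refine (hUc _).2 ⟨C.mul_mem (C.inv_mem t.2) hx, ?_⟩
    have hz : (t⁻¹ * ⟨x, hx⟩ : C) ∈ Ψ.unipotent hup 1 := Ψ.mem_unipotent_of_diag (by
      rw [map_mul, ← he, ← map_mul, inv_mul_cancel, map_one])
    obtain ⟨m, hm⟩ := (Ψ.mem_unipotent_iff_isNilpotent hup).1 hz
    have hPQ : P * Q = 1 := mul_eq_one_comm.mp hQP
    refine ⟨m + 1, ?_⟩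
    have e : Ψ.ρ (t⁻¹ * ⟨x, hx⟩) - 1 = P * (Φ.ρ ((t : Pt G)⁻¹ * x) - 1) * Q := by
      rw [mul_sub, sub_mul, _root_.mul_one, hPQ]
      rfl
    have hp : ∀ (A : Matrix (Fin N) (Fin N) k) (j : ℕ), (P * A * Q) ^ j = P * A ^ j * Q := fun A j => by
      induction j with
      | zero => rw [pow_zero, pow_zero, _root_.mul_one, hPQ]
      | succ j ih =>
        rw [pow_succ, ih, pow_succ]
        simp only [_root_.mul_assoc]
        rw [← _root_.mul_assoc Q P, hQP, _root_.one_mul]
    rw [e, hp] at hm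
    have h3 := congrArg (fun M => Q * M * P) hm
    simp only [mul_zero, zero_mul, ← _root_.mul_assoc, hQP, _root_.one_mul] at h3
    simp only [_root_.mul_assoc, hQP, _root_.mul_one] at h3
    rw [pow_succ, h3, zero_mul]

/-- The trivial subgroup is the unipotent radical of a reductive group. -/
theorem isUnipotentRadical_one (hG : Red.IsReductiveOver k G) :
    ∃ (U : Over (Spec (CommRingCat.of k))) (_ : GrpObj U) (u : U ⟶ G) (_ : IsMonHom u),
      Par.IsUnipotentRadical u ∧ (ptHom u).range = ⊥ := by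
  have := FixedPt.qc_G G
  have := GrpScheme.HomFlat.isReduced_of_smooth G.hom
  obtain ⟨N, ⟨Φ⟩⟩ := exists_rep (G := G)
  obtain ⟨U, _, u, _, _, _, _, hmem, hconn⟩ := exists_sub (⊥ : Subgroup (Pt G)) (by
    rw [Subgroup.coe_bot]; exact Φ.isClosed_singleton 1)
  have := hconn (by rw [Subgroup.coe_bot]; exact isPreconnected_singleton)
  have : IsAffine U.left := isAffine_of_isAffineHom u.left
  have : Mono u := Over.mono_of_mono_left u
  have := GrpScheme.HomFlat.isReduced_of_smooth U.hom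
  have hr : (ptHom u).range = ⊥ := le_antisymm (by rintro _ ⟨w, rfl⟩; exact (hmem _).2 ⟨w, rfl⟩) bot_le
  refine ⟨U, inferInstance, u, inferInstance, ⟨inferInstance, ‹_›, ?_, ‹_›, FixedPt.qc_G U, ?_, ?_⟩, hr⟩
  · refine NormalClosure.isNormalHom_of_points u fun g x hx => ?_
    rw [hr, Subgroup.mem_bot] at hx ⊢
    rw [hx, _root_.mul_one, mul_inv_cancel]
  · exact UnipRadical.geom_of_noSubtorus (RadicalScheme.hasNoSubtorus_of_isNilpotent Φ u fun w => by
      rw [Subgroup.mem_bot.1 ((hmem _).2 ⟨w, rfl⟩), map_one, sub_self]; exact IsNilpotent.zero)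
  · intro U' _ u' _ hcl hN hsm hqc hgeo
    obtain ⟨s⟩ : Nonempty ↥(Spec (CommRingCat.of k)) := inferInstanceAs (Nonempty (PrimeSpectrum k))
    have := UnipBorel.connected_of_geom s U' (hgeo s).1
    have htriv : IsIso U'.hom :=
      hG.2.2.2 U' u' hcl hsm ‹_› hN (UnipRadical.hasNoSubtorus_of_bc _ (hgeo s).2)
    have := hsm
    have := GrpScheme.HomFlat.isReduced_of_smooth U'.hom
    obtain ⟨f, hf⟩ := factor_of_points u' u fun w => by
      have hw : w = 1 := Over.OverMorphism.ext ((cancel_mono U'.hom).1 (by rw [Over.w, Over.w]))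
      obtain ⟨z, hz⟩ := (hmem (w ≫ u')).1 (by rw [hw, MonObj.one_comp]; exact Subgroup.one_mem _)
      exact mem_range_of_factor hz
    exact ⟨f, hf⟩

/-- In a reductive group a maximal torus is its own centraliser, on rational points. -/
theorem centralizer_eq_self (hG : Red.IsReductiveOver k G) {T : Over (Spec (CommRingCat.of k))} [GrpObj T]
    (iT : T ⟶ G) [IsMonHom iT] (hT : AGF.IsMaxTorus iT) :
    Subgroup.centralizer ((ptHom iT).range : Set (Pt G)) = (ptHom iT).range := by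
  classical
  have := hT.2.1
  obtain ⟨N, Φ, hΦ⟩ := exists_regRep (G := G)
  obtain ⟨htor, -⟩ := Torus.maximal_range Φ hT
  obtain ⟨U, _, u, _, hU, hr⟩ := isUnipotentRadical_one hG
  obtain ⟨Uc, -, -, -, hfi, hdec⟩ := cartan_decomp Φ hΦ iT hT u hU
  rw [hr, Subgroup.bot_subgroupOf] at hfi
  have : Finite Uc := Finite.of_equiv _ (QuotientGroup.quotientBot (G := Uc)).toEquiv
  rw [Centralizer.centralizer_eq Φ htor]
  set T' := (ptHom iT).range
  set C := Φ.centralizerComp T'
  have : PreconnectedSpace C := Subtype.preconnectedSpace (Φ.isPreconnected_centralizerComp T')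
  have hTC : T' ≤ C := htor.le_centralizerComp_self
  have : (T'.subgroupOf C).FiniteIndex := by
    refine @Subgroup.finiteIndex_of_finite_quotient _ _ _ (Finite.of_surjective
      (fun z : {z : Uc // (z : Pt G) ∈ C} => (QuotientGroup.mk (⟨(z.1 : Pt G), z.2⟩ : C) : C ⧸ T'.subgroupOf C)) ?_)
    rintro ⟨x, hx⟩
    obtain ⟨t, ht, z, hz, he⟩ := hdec x hx
    have hzC : z ∈ C := by
      have : t⁻¹ * x ∈ C := C.mul_mem (C.inv_mem (hTC ht)) hx
      rwa [he, inv_mul_cancel_left] at this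
    refine ⟨⟨⟨z, hz⟩, hzC⟩, QuotientGroup.eq.2 ?_⟩
    show z⁻¹ * x ∈ T'
    have hcomm : t * z = z * t := Subgroup.mem_centralizer_iff.1 (Φ.centralizerComp_le T' hzC) t ht
    rw [he, hcomm, inv_mul_cancel_left]
    exact ht
  have htop := (Φ.restrict C (Φ.isClosed_centralizerComp T')).eq_top_of_finiteIndex (T'.subgroupOf C)
    (htor.closed.preimage continuous_subtype_val)
  exact le_antisymm (fun x hx => (htop ▸ Subgroup.mem_top (⟨x, hx⟩ : C) : (⟨x, hx⟩ : C) ∈ T'.subgroupOf C)) hTC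

end Groth.Agent.Borel50.Luna
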