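import Groth.Agent.Borel50.Luna.CentreUnip
import Groth.Agent.H85.UnipTest
import Groth.Prelude.Def_AlphaP
import Groth.Prelude.Def_ConstGrp

/-!
# The centre of a reductive group contains no non-trivial unipotent subgroup
-/

set_option autoImplicit false
set_option linter.style.haveILetI false
set_option synthInstance.maxHeartbeats 400000
set_option backward.isDefEq.respectTransparency false
set_option backward.isDefEq.respectTransparency.types false
universe u

open CategoryTheory MonoidalCategory CartesianMonoidalCategory MonObj GrpObj AlgebraicGeometry Limits WithConv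
open scoped TensorProduct

noncomputable section

namespace Groth.Agent.Borel50.Luna.CentreNoUnip

open Groth.Agent.Borel50.Pts Groth.Agent.Borel50.Lin Groth.Agent.Borel50.Density Groth.Agent.Borel50.GeomTorus
open Groth.Agent.DiagRig (bcTr bcTr_mul bcTr_map bcTr_injective bcTr_comp bcTr_one)
open Groth.Agent.GrpdLib.AffHomogeneous (specG)

attribute [local instance] UnipLib.algOf ptTop

variable {k : Type u} [Field k]

/-- A unipotent affine group which embeds in the centre of a reductive group is trivial. -/
theorem counit_eq {A : Type u} [CommRing A] [HopfAlgebra k A] [Algebra.FiniteType k A]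
    (hA : HopfRep.IsUnipotent k A) {G Z : Over (Spec (CommRingCat.of k))} [GrpObj G] (hG : Red.IsReductive G)
    [GrpObj Z] (z : Z ⟶ G) (hz : Red.IsCentre z)
    (φ : specG (k := k) A ⟶ Z) [IsMonHom φ] [Mono φ] (a : A) : a = algebraMap k A (Coalgebra.counit a) := by
  obtain ⟨_, _, _, hredG⟩ := Apps.facts hG
  obtain ⟨T, _, j, _, _, hT, hfac⟩ := CentreUnip.exists_torus_of_central hredG
  have := hz.1
  have := hz.2.1
  let S := specG (k := k) A
  have : IsAffine S.left := inferInstanceAs (IsAffine (Spec (CommRingCat.of A)))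
  have : LocallyOfFiniteType S.hom := by
    show LocallyOfFiniteType (Spec.map (CommRingCat.ofHom (algebraMap k A)))
    rw [HasRingHomProperty.Spec_iff (P := @LocallyOfFiniteType)]
    exact RingHom.finiteType_algebraMap.2 ‹_›
  let i := (Over.pullback (gp k)).map (φ ≫ z)
  have : IsMonHom i := DiagRig.isMonHom_bcMap (gp k) (φ ≫ z)
  have : Mono i := PRed19.mono_map (gp k) (φ ≫ z)
  obtain ⟨t, ht⟩ := hfac _ i fun X' y h => by
    refine bcTr_injective (gp k) ?_
    rw [bcTr_mul, bcTr_mul, bcTr_map]
    have := (hz.2.2 S (φ ≫ z)).1 ⟨φ, rfl⟩ _ (bcTr (gp k) y) (bcTr (gp k) h)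
    rwa [Category.comp_id] at this
  have : Mono t := by
    have : Mono (t ≫ j) := by rw [ht]; infer_instance
    exact mono_of_mono t j
  have : IsMonHom t :=
    { one_hom := by
        rw [← cancel_mono j, Category.assoc, ht, IsMonHom.one_hom i, IsMonHom.one_hom j]
      mul_hom := by
        rw [← cancel_mono j, Category.assoc, ht, IsMonHom.mul_hom i, Category.assoc, IsMonHom.mul_hom j,
          tensorHom_comp_tensorHom_assoc, ht] }
  have : IsAffine (Red.bc (gp k) S).left := BaseChange.isAffine_bc (gp k) S
  have : LocallyOfFiniteType (Red.bc (gp k) S).hom := inferInstanceAs (LocallyOfFiniteType (pullback.snd S.hom (gp k)))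
  have : QuasiCompact (Red.bc (gp k) S).hom := inferInstance
  have hM : SGA3x.IsMultTypeFT (Red.bc (gp k) S) :=
    MaxTorus.isMultTypeFT_sub (DiagRig.multTypeFT_of_torus hT) t
  let X := (Over.map (gp k)).obj (Red.bc (gp k) S)
  let v := 𝟙 (Red.bc (gp k) S)
  have h1 : (GrpdLib.AffHomogeneous.ptEquiv X).symm (bcTr (gp k) v) = (1 : WithConv (A →ₐ[k] Γ(X.left, ⊤))) := by
    refine WithConv.ofConv_injective (AlgHom.ext fun w => ?_)
    obtain ⟨n, hn⟩ := Comod.exists_mem_fil (W := A) hA w
    refine (DiagRig.MTUnip.kills (gp k) hM v hn).trans ?_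
    show _ = (1 : WithConv (A →ₐ[k] Γ(X.left, ⊤))) w
    rw [AlgHom.convOne_apply]
  have h2 : bcTr (gp k) v = 1 := by
    rw [← (GrpdLib.AffHomogeneous.ptEquiv X).apply_symm_apply (bcTr (gp k) v), h1, map_one]
  have hone : (Over.pullback (gp k)).map (1 : S ⟶ S) = 1 := by
    refine bcTr_injective (gp k) ?_
    rw [bcTr_one]
    have h0 := bcTr_map (gp k) (𝟙 (Red.bc (gp k) S)) (1 : S ⟶ S)
    rw [Category.id_comp] at h0
    rw [h0, MonObj.comp_one]
  have hid : 𝟙 S = 1 := OverField.map_injective (gp k) (by
    rw [hone, CategoryTheory.Functor.map_id]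
    exact bcTr_injective (gp k) (h2.trans (bcTr_one (gp k)).symm))
  have hx : (WithConv.toConv (AlgHom.id k A) : WithConv (A →ₐ[k] A)) = 1 := by
    refine Spec.mapMulEquiv.injective ?_
    rw [map_one]
    refine Eq.trans ?_ hid
    ext1
    show Spec.map _ = _
    simp
    rfl
  have := congrArg (fun f : WithConv (A →ₐ[k] A) => f.ofConv a) hx
  simpa [AlgHom.convOne_apply] using this

variable (p : ℕ) [Fact p.Prime] [CharP k p]

/-- `α_p` is unipotent. -/
theorem isUnipotent_alphaP : HopfRep.IsUnipotent k (AlphaP.A p k) := by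
  refine H85.UnipTest.isUnipotent_of_primitive fun I _ hI => ?_
  refine ⟨Ideal.Quotient.mk I (AlphaP.x p k), fun h => hI (le_antisymm ?_ ?_), ?_⟩
  · intro b hb
    exact Submodule.IsCoideal.counit_eq_zero (R := k) (I := I.restrictScalars k) hb
  · intro b hb
    rw [Ideal.Quotient.eq_zero_iff_mem] at h
    obtain ⟨f, rfl⟩ := AlphaP.mk_surjective p k b
    have hq : (Ideal.Quotient.mkₐ k I).comp (AlphaP.mk p k) =
        ((Algebra.ofId k (AlphaP.A p k ⧸ I)).comp ((Bialgebra.counitAlgHom k (AlphaP.A p k)).comp (AlphaP.mk p k))) := by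
      refine Polynomial.algHom_ext ?_
      simp only [AlgHom.comp_apply, AlphaP.mk_X, Bialgebra.counitAlgHom_apply, AlphaP.counit_x, map_zero]
      exact Ideal.Quotient.eq_zero_iff_mem.2 h
    have := AlgHom.congr_fun hq f
    simp only [AlgHom.comp_apply] at this
    rw [RingHom.mem_ker] at hb
    rw [hb, map_zero] at this
    exact Ideal.Quotient.eq_zero_iff_mem.1 this
  · let π := Bialgebra.comulAlgHom k (AlphaP.A p k)
    show Coalgebra.comul (R := k) (Ideal.Quotient.mk I (AlphaP.x p k)) = _
    have e : Coalgebra.comul (R := k) (Ideal.Quotient.mk I (AlphaP.x p k)) =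
        TensorProduct.map (Submodule.mkQ (I.restrictScalars k)) (Submodule.mkQ (I.restrictScalars k))
          (Coalgebra.comul (R := k) (AlphaP.x p k)) := rfl
    rw [e, AlphaP.comul_x, map_add, TensorProduct.map_tmul, TensorProduct.map_tmul]
    rfl

/-- The constant group of order `p` is unipotent in characteristic `p`. -/
theorem isUnipotent_const : HopfRep.IsUnipotent k (ConstGrp.F k (Multiplicative (ZMod p))) := by
  classical
  let F := ConstGrp.F k (Multiplicative (ZMod p))
  let c : F := fun m => ((Multiplicative.toAdd m).val : k)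
  let φ : ZMod p →+* k := ZMod.castHom (dvd_refl p) k
  have hc : ∀ m, c m = φ (Multiplicative.toAdd m) := fun m => by
    show ((Multiplicative.toAdd m).val : k) = _
    rw [← map_natCast φ, ZMod.natCast_zmod_val]
  have hadd : Coalgebra.comul (R := k) c = c ⊗ₜ[k] (1 : F) + (1 : F) ⊗ₜ[k] c := by
    rw [ConstGrp.comul_eq_sum]
    simp only [hc, toAdd_mul, map_add, add_smul, Finset.sum_add_distrib]
    congr 1
    · conv_rhs => rw [ConstGrp.eq_sum_smul_e c, ← ConstGrp.sum_e (R := k) (G := Multiplicative (ZMod p))]
      rw [TensorProduct.sum_tmul]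
      simp only [TensorProduct.tmul_sum, TensorProduct.smul_tmul', hc]
    · conv_rhs => rw [ConstGrp.eq_sum_smul_e c, ← ConstGrp.sum_e (R := k) (G := Multiplicative (ZMod p))]
      rw [TensorProduct.sum_tmul]
      simp only [TensorProduct.tmul_sum, TensorProduct.tmul_smul, hc]
  refine H85.UnipTest.isUnipotent_of_primitive fun I _ hI => ?_
  refine ⟨Ideal.Quotient.mk I c, fun h => hI (le_antisymm ?_ ?_), ?_⟩
  · intro b hb
    exact Submodule.IsCoideal.counit_eq_zero (R := k) (I := I.restrictScalars k) hb
  · intro b hb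
    rw [Ideal.Quotient.eq_zero_iff_mem] at h
    have hb1 : b 1 = 0 := hb
    let g : F := fun m => (c m)⁻¹
    have : b = b * g * c := ConstGrp.ext fun m => by
      rw [ConstGrp.mul_apply, ConstGrp.mul_apply, _root_.mul_assoc]
      by_cases hm : m = 1
      · subst hm; rw [hb1, zero_mul]
      · have hne : c m ≠ 0 := by
          rw [hc]
          intro h0
          exact hm (Multiplicative.toAdd.injective (φ.injective (h0.trans (map_zero φ).symm)))
        show b m = b m * ((c m)⁻¹ * c m)
        rw [inv_mul_cancel₀ hne, _root_.mul_one]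
    rw [this]
    exact I.mul_mem_left _ h
  · have e : Coalgebra.comul (R := k) (Ideal.Quotient.mk I c) =
        TensorProduct.map (Submodule.mkQ (I.restrictScalars k)) (Submodule.mkQ (I.restrictScalars k))
          (Coalgebra.comul (R := k) c) := rfl
    rw [e, hadd, map_add, TensorProduct.map_tmul, TensorProduct.map_tmul]
    rfl

end Groth.Agent.Borel50.Luna.CentreNoUnip
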