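import Groth.Agent.Borel50.Luna.Isog
import Groth.Agent.Borel50.OverField
import Groth.Agent.PRed19.UnipCrit
import Groth.Agent.MaxTorus.SubMult
import Groth.Agent.GrpScheme.SubgroupObj
import Groth.Agent.DiagRig.SubDescent

/-!
# The centre of a reductive group meets unipotent subgroups trivially
-/

set_option autoImplicit false
set_option linter.style.haveILetI false
set_option synthInstance.maxHeartbeats 400000
set_option backward.isDefEq.respectTransparency false
set_option backward.isDefEq.respectTransparency.types false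
universe u

open CategoryTheory MonoidalCategory CartesianMonoidalCategory MonObj GrpObj AlgebraicGeometry Limits WithConv
open scoped TensorProduct

noncomputable section

namespace Groth.Agent.Borel50.Luna.CentreUnip

open Groth.Agent.Borel50.Pts Groth.Agent.Borel50.Lin Groth.Agent.Borel50.Density Groth.Agent.Borel50.GeomTorus
open Groth.Agent.DiagRig (bcTr bcTr_mul bcTr_map bcTr_injective bcTr_comp bcTr_one)
open Groth.Agent.GrpdLib.AffHomogeneous (specG)

attribute [local instance] UnipLib.algOf ptTop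

section Closed

variable {K : Type u} [Field K] [IsAlgClosed K] {G : Over (Spec (CommRingCat.of K))} [GrpObj G]

/-- A central point of a reductive group lies in some maximal torus. -/
theorem exists_torus_of_central (hG : Red.IsReductiveOver K G) :
    ∃ (T : Over (Spec (CommRingCat.of K))) (_ : GrpObj T) (j : T ⟶ G), IsMonHom j ∧ Mono j ∧ Red.IsTorus T ∧
      ∀ (X : Over (Spec (CommRingCat.of K))) (x : X ⟶ G),
        (∀ (X' : Over (Spec (CommRingCat.of K))) (y : X' ⟶ X) (h : X' ⟶ G), (y ≫ x) * h = h * (y ≫ x)) →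
        ∃ t : X ⟶ T, t ≫ j = x := by
  classical
  obtain ⟨_, _, _, -⟩ := id hG
  have := FixedPt.qc_G G
  have := GrpScheme.HomFlat.isReduced_of_smooth G.hom
  obtain ⟨N, ⟨Φ⟩⟩ := exists_rep (G := G)
  have hbot : Φ.IsToral ⊥ := ⟨by rw [Subgroup.coe_bot]; exact Φ.isClosed_singleton 1,
    by rw [Subgroup.coe_bot]; exact isPreconnected_singleton,
    1, 1, _root_.one_mul 1, fun x hx => by
      rw [Subgroup.mem_bot.1 hx, map_one, _root_.one_mul, _root_.one_mul]; exact Matrix.isDiag_one⟩
  obtain ⟨T₀, hT₀, -, hmax₀⟩ := hbot.exists_maximal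
  obtain ⟨S, _, j, _, hS, hjr⟩ := Apps2.exists_maxTorus Φ hT₀ hmax₀
  have := hS.2.1
  obtain ⟨_, _, _, _, -, -⟩ := TorusSch.torus_facts hS.2.2.1
  have := GrpScheme.HomFlat.isReduced_of_smooth S.hom
  have : IsClosedImmersion j.left := Torus.isClosedImmersion_of_torus j hS.2.2.1
  have := FixedPt.qc_G S
  have : IsAffineHom G.hom := isAffineHom_of_isAffine _
  obtain ⟨Z, _, c, hc, hcc, hcs⟩ := S5247.result S G (DiagRig.multTypeFT_of_torus hS.2.2.1) ‹_› ‹_› j
  have := hc.1
  have := hc.2.1
  have := hcc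
  have := hcs
  have := GrpScheme.HomFlat.isReduced_of_smooth Z.hom
  have hZr := Centralizer.range_eq_centralizer j hS.2.2.1 c hc
  have hself := centralizer_eq_self hG j hS
  obtain ⟨l, hl⟩ := factor_of_points c j fun w => by
    obtain ⟨z, hz⟩ := hself.le (hZr.le (show w ≫ c ∈ _ from ⟨w, rfl⟩))
    exact mem_range_of_factor hz
  refine ⟨S, inferInstance, j, inferInstance, inferInstance, hS.2.2.1, fun X x hx => ?_⟩
  obtain ⟨z, hz⟩ := (hc.2.2 X x).2 fun X' y h => hx X' y (h ≫ j)
  exact ⟨z ≫ l, by rw [Category.assoc, hl, hz]⟩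

end Closed

variable {k : Type u} [Field k] {G Z U X : Over (Spec (CommRingCat.of k))}

theorem main [GrpObj G] (hG : Red.IsReductive G) [GrpObj Z] (z : Z ⟶ G) (hz : Red.IsCentre z)
    [GrpObj U] [IsAffine U.left] [Smooth U.hom] [ConnectedSpace ↥U.left]
    (hU : ∀ s : ↥(Spec (CommRingCat.of k)),
      Red.HasNoSubtorus (AlgebraicClosure ((Spec (CommRingCat.of k)).residueField s)) (Red.geomFibre s U))
    (u : U ⟶ G) [IsMonHom u] (hu : IsClosedImmersion u.left)
    (a : X ⟶ Z) (b : X ⟶ U) (hab : a ≫ z = b ≫ u) : b ≫ u = 1 := by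
  obtain ⟨_, _, _, hredG⟩ := Apps.facts hG
  let K := AlgebraicClosure ((Spec (CommRingCat.of k)).residueField (cp k))
  -- unipotence
  obtain ⟨A, hA, e, he⟩ := AffGrp.Bridge.exists_iso (R := CommRingCat.of k) U
  haveI := he
  haveI : IsMonHom e.inv := inferInstance
  let S := specG (k := k) A
  haveI hiso : IsIso e.hom.left := inferInstanceAs (IsIso ((Over.forget _).map e.hom))
  haveI : Smooth S.hom := by
    have h : Smooth (e.hom.left ≫ U.hom) := inferInstance
    rwa [Over.w] at h
  let hh : U.left ≃ₜ S.left := TopCat.homeoOfIso (Scheme.forgetToTop.mapIso ((Over.forget _).mapIso e.symm))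
  haveI : ConnectedSpace S.left := hh.surjective.connectedSpace hh.continuous
  haveI : IsAffine S.left := inferInstanceAs (IsAffine (Spec (CommRingCat.of A)))
  haveI : Algebra.FiniteType k A := by
    have h' : LocallyOfFiniteType (Spec.map (CommRingCat.ofHom (algebraMap k A))) :=
      inferInstanceAs (LocallyOfFiniteType S.hom)
    rw [HasRingHomProperty.Spec_iff (P := @LocallyOfFiniteType)] at h'
    exact RingHom.finiteType_algebraMap.1 h'
  have hA' : HopfRep.IsUnipotent k A := by
    have hh : PRed19.NoTorus (gp k) U := hU (cp k)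
    obtain ⟨φ, hφ⟩ : ∃ φ : CommRingCat.of k ⟶ CommRingCat.of K, Spec.map φ = gp k :=
      ⟨Spec.preimage (gp k), Spec.map_preimage (gp k)⟩
    rw [← hφ] at hh
    letI : Algebra k K := φ.hom.toAlgebra
    change PRed19.NoTorus (DiagRig.specP (CommRingCat.of k) K) U at hh
    have hS : PRed19.NoTorus (DiagRig.specP (CommRingCat.of k) K) S := hh.of_mono (V := S) e.hom
    obtain ⟨c, hc⟩ := DiagRig.exists_bcSpecIso k A K
    haveI := hc
    haveI : IsMonHom c.inv := inferInstance
    obtain ⟨_, hsm, hco⟩ := Borel50.OverField.facts_bc (DiagRig.specP (CommRingCat.of k) K) S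
    haveI := hsm
    haveI := hco
    let S' := specG (k := K) (K ⊗[k] A)
    haveI hiso' : IsIso c.inv.left := inferInstanceAs (IsIso ((Over.forget _).map c.inv))
    haveI : Smooth S'.hom := by
      have h : Smooth (c.inv.left ≫ (Red.bc (DiagRig.specP (CommRingCat.of k) K) S).hom) := inferInstance
      rwa [Over.w] at h
    let hh' : (Red.bc (DiagRig.specP (CommRingCat.of k) K) S).left ≃ₜ S'.left :=
      TopCat.homeoOfIso (Scheme.forgetToTop.mapIso ((Over.forget _).mapIso c))
    haveI : ConnectedSpace S'.left := hh'.surjective.connectedSpace hh'.continuous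
    have hS' : Red.HasNoSubtorus K S' := fun T _ j _ _ hT => hS T (j ≫ c.inv) hT
    exact (S7951.result k K A).2 (PRed19.isUnipotent_of_noSubtorus hS')
  -- the intersection with a maximal torus
  obtain ⟨T, _, j, _, _, hT, hfac⟩ := exists_torus_of_central hredG
  have hTm := DiagRig.multTypeFT_of_torus hT
  have := DiagRig.isMonHom_bcMap (gp k) u
  have : IsClosedImmersion ((Over.pullback (gp k)).map u).left := LimGrp.property_map @IsClosedImmersion (gp k) u hu
  have : Mono ((Over.pullback (gp k)).map u) := Over.mono_of_mono_left _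
  let M := pullback j ((Over.pullback (gp k)).map u)
  let p : M ⟶ T := pullback.fst _ _
  let q : M ⟶ Red.bc (gp k) U := pullback.snd _ _
  have hw : p ≫ j = q ≫ (Over.pullback (gp k)).map u := pullback.condition
  obtain ⟨_, _⟩ : ∃ _ : GrpObj M, IsMonHom p := by
    refine GrpScheme.SubgroupObj.exists_grpObj p ?_ ?_ ?_
    · exact ⟨pullback.lift ((p ⊗ₘ p) ≫ μ) ((q ⊗ₘ q) ≫ μ) (by
        rw [Category.assoc, Category.assoc, IsMonHom.mul_hom, IsMonHom.mul_hom,
          tensorHom_comp_tensorHom_assoc, tensorHom_comp_tensorHom_assoc, hw]), pullback.lift_fst _ _ _⟩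
    · exact ⟨pullback.lift η η (by rw [IsMonHom.one_hom, IsMonHom.one_hom]), pullback.lift_fst _ _ _⟩
    · exact ⟨pullback.lift (p ≫ ι) (q ≫ ι) (by
        rw [Category.assoc, Category.assoc, GrpObj.inv_hom, GrpObj.inv_hom, reassoc_of% hw]), pullback.lift_fst _ _ _⟩
  have : IsMonHom q :=
    { one_hom := by
        rw [← cancel_mono ((Over.pullback (gp k)).map u), Category.assoc, ← hw, ← Category.assoc,
          IsMonHom.one_hom p, IsMonHom.one_hom j, IsMonHom.one_hom ((Over.pullback (gp k)).map u)]
      mul_hom := by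
        rw [← cancel_mono ((Over.pullback (gp k)).map u), Category.assoc, ← hw, ← Category.assoc,
          IsMonHom.mul_hom p, Category.assoc, IsMonHom.mul_hom j, Category.assoc,
          IsMonHom.mul_hom ((Over.pullback (gp k)).map u),
          tensorHom_comp_tensorHom_assoc, tensorHom_comp_tensorHom_assoc, hw] }
  have : IsClosedImmersion p.left := MorphismProperty.of_isPullback (P := @IsClosedImmersion)
    ((IsPullback.of_hasPullback j ((Over.pullback (gp k)).map u)).flip.map (Over.forget _)) ‹_›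
  obtain ⟨_, _, _, _, -, -⟩ := TorusSch.torus_facts hT
  have := FixedPt.qc_G T
  have : LocallyOfFiniteType M.hom := by rw [← Over.w p]; infer_instance
  have : QuasiCompact M.hom := by rw [← Over.w p]; infer_instance
  have hM : SGA3x.IsMultTypeFT M := MaxTorus.isMultTypeFT_sub hTm p
  -- multiplicative to unipotent
  have := DiagRig.isMonHom_bcMap (gp k) e.inv
  let v : M ⟶ Red.bc (gp k) S := q ≫ (Over.pullback (gp k)).map e.inv
  have h1 : (GrpdLib.AffHomogeneous.ptEquiv ((Over.map (gp k)).obj M)).symm (bcTr (gp k) v) =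
      (1 : WithConv (A →ₐ[k] Γ(((Over.map (gp k)).obj M).left, ⊤))) := by
    refine WithConv.ofConv_injective (AlgHom.ext fun w => ?_)
    obtain ⟨n, hn⟩ := Comod.exists_mem_fil (W := A) hA' w
    refine (DiagRig.MTUnip.kills (gp k) hM v hn).trans ?_
    show _ = (1 : WithConv (A →ₐ[k] Γ(((Over.map (gp k)).obj M).left, ⊤))) w
    rw [AlgHom.convOne_apply]
  have h2 : bcTr (gp k) v = 1 := by
    rw [← (GrpdLib.AffHomogeneous.ptEquiv ((Over.map (gp k)).obj M)).apply_symm_apply (bcTr (gp k) v), h1, map_one]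
  have hv : v = 1 := bcTr_injective (gp k) (h2.trans (bcTr_one (gp k)).symm)
  have hq : q = 1 := by
    rw [← cancel_mono ((Over.pullback (gp k)).map e.inv), MonObj.one_comp]
    exact hv
  -- the point
  have hxu : (Over.pullback (gp k)).map (b ≫ u) = (Over.pullback (gp k)).map b ≫ (Over.pullback (gp k)).map u :=
    Functor.map_comp _ _ _
  obtain ⟨t, ht⟩ := hfac _ ((Over.pullback (gp k)).map (b ≫ u)) fun X' y h => by
    refine bcTr_injective (gp k) ?_
    rw [bcTr_mul, bcTr_mul, bcTr_map]
    have := (hz.2.2 X (b ≫ u)).1 ⟨a, hab⟩ _ (bcTr (gp k) y) (bcTr (gp k) h)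
    rwa [Category.comp_id] at this
  rw [hxu] at ht
  have hx : (Over.pullback (gp k)).map (b ≫ u) = 1 := by
    rw [hxu, ← pullback.lift_snd t ((Over.pullback (gp k)).map b) ht, Category.assoc]
    show _ ≫ q ≫ _ = _
    rw [hq, MonObj.one_comp, MonObj.comp_one]
  refine OverField.map_injective (gp k) (hx.trans (bcTr_injective (gp k) ?_))
  rw [DiagRig.bcTr_one]
  have h0 := bcTr_map (gp k) (𝟙 (Red.bc (gp k) X)) (1 : X ⟶ G)
  rw [Category.id_comp] at h0
  rw [h0, MonObj.comp_one]

end Groth.Agent.Borel50.Luna.CentreUnip
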