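import Groth.Agent.Borel50.Luna.Reg
import Groth.Agent.Borel50.TorusBorel
import Groth.Agent.Borel50.Parabolic

/-!
# Subgroups in the unipotent parts of all Borel subgroups through a torus act trivially on irreducible representations
-/

set_option autoImplicit false
universe u

open CategoryTheory MonoidalCategory CartesianMonoidalCategory MonObj GrpObj AlgebraicGeometry Limits
open scoped Matrix

noncomputable section

namespace Groth.Agent.Borel50.Luna

open Groth.Agent.Borel50.Pts Groth.Agent.Borel50.Lin Groth.Agent.Borel50.Density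

attribute [local instance] ptTop

variable {k : Type u} [Field k] [IsAlgClosed k] {G : Over (Spec (CommRingCat.of k))} [GrpObj G] [IsAffine G.left]
  [Smooth G.hom] [ConnectedSpace G.left] {n : ℕ}

/-- A representation without proper stable subspaces. -/
def IsIrred (π : Pt G →* Matrix (Fin n) (Fin n) k) : Prop :=
  ∀ x : Fin n → k, x ≠ 0 → Submodule.span k (Set.range fun g => π g *ᵥ x) = ⊤

omit [IsAffine G.left] [Smooth G.hom] [ConnectedSpace G.left] [IsAlgClosed k] in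
lemma IsIrred.exists_dot {π : Pt G →* Matrix (Fin n) (Fin n) k} (h : IsIrred π) {x : Fin n → k} (hx : x ≠ 0)
    {f : Fin n → k} (hf : f ≠ 0) : ∃ g, f ⬝ᵥ (π g *ᵥ x) ≠ 0 := by
  by_contra hne
  push Not at hne
  refine hf (dotProduct_eq_zero _ fun y => ?_)
  have hy : y ∈ Submodule.span k (Set.range fun g => π g *ᵥ x) := by rw [h x hx]; trivial
  induction hy using Submodule.span_induction with
  | mem z hz => obtain ⟨g, rfl⟩ := hz; exact hne g
  | zero => exact dotProduct_zero _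
  | add a b _ _ ha hb => rw [dotProduct_add, ha, hb, add_zero]
  | smul c a _ ha => rw [dotProduct_smul, ha, smul_zero]

omit [IsAffine G.left] [Smooth G.hom] [ConnectedSpace G.left] [IsAlgClosed k] in
lemma IsIrred.dual {π : Pt G →* Matrix (Fin n) (Fin n) k} (h : IsIrred π) : IsIrred (dual π) := by
  intro f hf
  by_contra hne
  obtain ⟨φ, hφ, hker⟩ := Submodule.exists_dual_map_eq_bot_of_lt_top (lt_top_iff_ne_top.2 hne) inferInstance
  let x : Fin n → k := fun i => φ (Pi.single i 1)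
  have hφx : ∀ y, φ y = y ⬝ᵥ x := fun y => by
    conv_lhs => rw [pi_eq_sum_univ' y]
    simp [x, dotProduct]
  have hx : x ≠ 0 := fun h0 => hφ (LinearMap.ext fun y => by rw [hφx, h0, dotProduct_zero]; rfl)
  obtain ⟨g, hg⟩ := h.exists_dot hx hf
  have h1 : φ (Luna.dual π g⁻¹ *ᵥ f) = 0 := by
    rw [← Submodule.mem_bot k, ← hker]
    exact ⟨_, Submodule.subset_span ⟨g⁻¹, rfl⟩, rfl⟩
  rw [hφx, dot_dual, _root_.inv_inv] at h1
  exact hg h1

/-- A line of the cone fixed by a torus is fixed by a Borel subgroup containing the torus. -/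
theorem pure_borel {π : Pt G →* Matrix (Fin n) (Fin n) k} (hπ : IsReg π) {v : Fin n → k}
    {B : Over (Spec (CommRingCat.of k))} [GrpObj B] (iB : B ⟶ G) [IsMonHom iB] (hB : Red.IsBorelOver k iB)
    (hfix : ∀ b ∈ (ptHom iB).range, ∃ c : k, π b *ᵥ v = c • v)
    {T : Over (Spec (CommRingCat.of k))} [GrpObj T] (iT : T ⟶ G) [IsMonHom iT] [Mono iT] (hT : Red.IsTorus T)
    {p : Fin n → k} (hp : p ∈ Cone π v) (hp0 : p ≠ 0) (hfixp : ∀ t ∈ (ptHom iT).range, ∃ c : k, π t *ᵥ p = c • p) :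
    ∃ (g : Pt G) (c : k), c ≠ 0 ∧ p = c • (π g *ᵥ v) ∧
      (ptHom iT).range ≤ (ptHom iB).range.map (MulAut.conj g).toMonoidHom := by
  classical
  have := FixedPt.qc_G G
  have := GrpScheme.HomFlat.isReduced_of_smooth G.hom
  obtain ⟨N, ⟨Φ⟩⟩ := exists_rep (G := G)
  obtain ⟨h, c, rfl⟩ := hp
  have hc : c ≠ 0 := fun h0 => hp0 (by rw [h0, zero_smul])
  set p := π h *ᵥ v with hpdef
  have hp' : p ≠ 0 := fun h0 => hp0 (by rw [h0, smul_zero])
  obtain ⟨i₀, hi₀⟩ := Function.ne_iff.1 hp'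
  -- the stabiliser of the line
  have hcancel : ∀ x : Pt G, ∀ y, π x⁻¹ *ᵥ (π x *ᵥ y) = y := fun x y => by
    rw [Matrix.mulVec_mulVec, ← map_mul, inv_mul_cancel, map_one, Matrix.one_mulVec]
  let St : Subgroup (Pt G) :=
    { carrier := {x | ∃ d : k, π x *ᵥ p = d • p}
      one_mem' := ⟨1, by rw [map_one, Matrix.one_mulVec, one_smul]⟩
      mul_mem' := fun {x y} ⟨d, hd⟩ ⟨e, he⟩ => ⟨e * d, by
        rw [map_mul, ← Matrix.mulVec_mulVec, he, Matrix.mulVec_smul, hd, smul_smul]⟩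
      inv_mem' := fun {x} ⟨d, hd⟩ => by
        have h1 := hcancel x p
        rw [hd, Matrix.mulVec_smul] at h1
        have hd0 : d ≠ 0 := fun h0 => hp' (by rw [← h1, h0, zero_smul])
        exact ⟨d⁻¹, by rw [← inv_smul_smul₀ hd0 (π x⁻¹ *ᵥ p), h1]⟩ }
  have hSt : IsClosed (St : Set (Pt G)) := by
    let q : Fin n → MvPolynomial (Fin n × Fin n) k := fun i =>
      (∑ l, MvPolynomial.C (p l) * MvPolynomial.X (i, l)) * MvPolynomial.C (p i₀) -
        (∑ l, MvPolynomial.C (p l) * MvPolynomial.X (i₀, l)) * MvPolynomial.C (p i)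
    have hq : ∀ x i, ev (q i) (π x) = (π x *ᵥ p) i * p i₀ - (π x *ᵥ p) i₀ * p i := fun x i => by
      simp [q, ev, Matrix.mulVec, dotProduct, _root_.mul_comm]
    have e : (St : Set (Pt G)) = ⋂ i, {x | ev (q i) (π x) = 0} := by
      ext x
      simp only [Set.mem_iInter, Set.mem_ofPred_eq, hq, sub_eq_zero]
      constructor
      · rintro ⟨d, hd⟩ i
        simp only [hd, Pi.smul_apply, smul_eq_mul]
        ring
      · intro hx
        refine ⟨(π x *ᵥ p) i₀ / p i₀, funext fun i => ?_⟩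
        rw [Pi.smul_apply, smul_eq_mul, div_mul_eq_mul_div, ← hx i, mul_div_cancel_right₀ _ hi₀]
    rw [e]
    exact isClosed_iInter fun i => hπ.isClosed_ev _
  -- its identity component
  let St₀ : Subgroup (Pt G) := (Φ.restrict St hSt).identityComponent.map St.subtype
  have hconn : ∀ R : Subgroup (Pt G), _root_.IsPreconnected (R : Set (Pt G)) → R ≤ St → R ≤ St₀ := by
    intro R hR hle x hx
    refine ⟨⟨x, hle hx⟩, ?_, rfl⟩
    have hpre : _root_.IsPreconnected ((Subtype.val : St → Pt G) ⁻¹' (R : Set (Pt G))) := by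
      refine Topology.IsInducing.subtypeVal.isPreconnected_image.1 ?_
      convert hR using 1
      exact Set.Subset.antisymm (by rintro _ ⟨z, hz, rfl⟩; exact hz) fun z hz => ⟨⟨z, hle hz⟩, hz, rfl⟩
    exact hpre.subset_connectedComponent (x := 1) R.one_mem hx
  obtain ⟨K, _, iK, _, _, _, _, hmem, hconnK⟩ := exists_sub St₀
    (Rep.isClosed_map_subtype hSt (Rep.isClosed_identityComponent _))
  have := hconnK (Rep.isPreconnected_map_subtype isPreconnected_connectedComponent)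
  have : IsAffine K.left := isAffine_of_isAffineHom iK.left
  have := GrpScheme.HomFlat.isReduced_of_smooth K.hom
  have : Mono iK := Over.mono_of_mono_left iK
  -- the torus and the Borel subgroup lie in it
  obtain ⟨_, _, _, _, -, -⟩ := TorusSch.torus_facts hT
  have := Torus.isClosedImmersion_of_torus iT hT
  have := GrpScheme.HomFlat.isReduced_of_smooth T.hom
  have hBh := Conj.isBorelOver_conjBy iB hB h
  have := hBh.1
  have := hBh.2.1
  have := hBh.2.2.1
  have := hBh.2.2.2.1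
  have := GrpScheme.HomFlat.isReduced_of_smooth B.hom
  have hBr := ToralConj.range_conjBy iB h
  have hTle : (ptHom iT).range ≤ St₀ := hconn _ (Density.isPreconnected_range iT) fun x hx => by
    obtain ⟨d, hd⟩ := hfixp x hx
    refine ⟨d, ?_⟩
    rw [Matrix.mulVec_smul, smul_comm] at hd
    exact smul_right_injective _ hc hd
  have hBle : (ptHom (AGF.conjBy h iB)).range ≤ St₀ := hconn _ (Density.isPreconnected_range _) fun x hx => by
    rw [hBr] at hx
    obtain ⟨b, hb, rfl⟩ := hx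
    obtain ⟨d, hd⟩ := hfix b hb
    refine ⟨d, ?_⟩
    show π (h * b * h⁻¹) *ᵥ (π h *ᵥ v) = _
    rw [Matrix.mulVec_mulVec, ← map_mul, inv_mul_cancel_right, map_mul, ← Matrix.mulVec_mulVec, hd, Matrix.mulVec_smul]
  obtain ⟨t, ht⟩ := factor_of_points iT iK fun w => by
    obtain ⟨z, hz⟩ := (hmem _).1 (hTle ⟨w, rfl⟩)
    exact mem_range_of_factor hz
  obtain ⟨f, hf⟩ := factor_of_points (AGF.conjBy h iB) iK fun w => by
    obtain ⟨z, hz⟩ := (hmem _).1 (hBle ⟨w, rfl⟩)
    exact mem_range_of_factor hz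
  have : IsMonHom (t ≫ iK) := ht ▸ ‹IsMonHom iT›
  have : IsMonHom t :=
    { one_hom := by rw [← cancel_mono iK, Category.assoc, ht, IsMonHom.one_hom iK, IsMonHom.one_hom iT]
      mul_hom := by
        rw [← cancel_mono iK, Category.assoc, ht, IsMonHom.mul_hom iT, Category.assoc, IsMonHom.mul_hom iK,
          tensorHom_comp_tensorHom_assoc, ht] }
  have : Mono (t ≫ iK) := ht ▸ ‹Mono iT›
  have : Mono t := mono_of_mono t iK
  have hfB := Parabolic.isBorelOver_factor (AGF.conjBy h iB) hBh iK f hf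
  have := hfB.1
  obtain ⟨M, ⟨ΦK⟩⟩ := exists_rep (G := K)
  obtain ⟨s, hs⟩ := ToralConj.conj_into_borel f hfB (Torus.isToral_range ΦK t hT)
  let g : Pt G := (s ≫ iK)⁻¹ * h
  obtain ⟨d, hd⟩ : (s ≫ iK)⁻¹ ∈ St := St.inv_mem (by
    have hx : s ≫ iK ∈ St₀ := (hmem _).2 ⟨s, rfl⟩
    exact Subgroup.map_subtype_le _ hx)
  have hgp : π g *ᵥ v = d • p := by
    show π ((s ≫ iK)⁻¹ * h) *ᵥ v = _
    rw [map_mul, ← Matrix.mulVec_mulVec, ← hpdef, hd]
  have hd0 : d ≠ 0 := fun h0 => hp' (by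
    have h1 := hcancel g v
    rw [hgp, h0, zero_smul, Matrix.mulVec_zero] at h1
    rw [hpdef, ← h1, Matrix.mulVec_zero])
  refine ⟨g, c / d, div_ne_zero hc hd0, by rw [hgp, smul_smul, div_mul_cancel₀ _ hd0], ?_⟩
  rintro _ ⟨w, rfl⟩
  obtain ⟨b, hb⟩ := hs ⟨w ≫ t, ⟨w, rfl⟩, rfl⟩
  have e := congrArg (ptHom iK) hb
  change (b ≫ f) ≫ iK = ((s * (w ≫ t) * s⁻¹) ≫ iK) at e
  rw [Category.assoc, hf, MonObj.mul_comp, MonObj.mul_comp, GrpObj.inv_comp, Category.assoc, ht] at e
  have hb' : b ≫ AGF.conjBy h iB ∈ (ptHom iB).range.map (MulAut.conj h).toMonoidHom := hBr ▸ ⟨b, rfl⟩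
  obtain ⟨b', hb'r, hb'e⟩ := hb'
  refine ⟨b', hb'r, ?_⟩
  change h * b' * h⁻¹ = b ≫ AGF.conjBy h iB at hb'e
  show g * b' * g⁻¹ = w ≫ iT
  rw [e] at hb'e
  calc g * b' * g⁻¹ = (s ≫ iK)⁻¹ * (h * b' * h⁻¹) * (s ≫ iK) := by simp only [g]; group
    _ = w ≫ iT := by rw [hb'e]; group

omit [IsAffine G.left] [Smooth G.hom] [ConnectedSpace G.left] [IsAlgClosed k] in
lemma mulVec_diag {M : Matrix (Fin n) (Fin n) k} (hM : M.IsDiag) (x : Fin n → k) :
    M *ᵥ x = fun i => M i i * x i := by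
  funext i
  rw [Matrix.mulVec, dotProduct, Finset.sum_eq_single i]
  · intro j _ hj
    rw [hM (Ne.symm hj), zero_mul]
  · exact fun h => absurd (Finset.mem_univ i) h

/-- The main statement, for a diagonal torus. -/
theorem fixes_diag {π : Pt G →* Matrix (Fin n) (Fin n) k} (hπ : IsReg π) (hirr : IsIrred π)
    {T : Over (Spec (CommRingCat.of k))} [GrpObj T] (iT : T ⟶ G) [IsMonHom iT] (hT : AGF.IsMaxTorus iT)
    (hd : ∀ t ∈ (ptHom iT).range, (π t).IsDiag) {S : Subgroup (Pt G)} (hSc : _root_.IsPreconnected (S : Set (Pt G)))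
    (hS : ∀ (B : Over (Spec (CommRingCat.of k))) [GrpObj B] (iB : B ⟶ G) [IsMonHom iB], Red.IsBorelOver k iB →
      (ptHom iT).range ≤ (ptHom iB).range → S ≤ (ptHom iB).range)
    (hSn : ∀ s ∈ S, IsNilpotent (π s - 1)) : ∀ s ∈ S, π s = 1 := by
  classical
  rcases Nat.eq_zero_or_pos n with rfl | hn
  · exact fun s _ => Matrix.ext fun i => i.elim0
  have := FixedPt.qc_G G
  have := GrpScheme.HomFlat.isReduced_of_smooth G.hom
  obtain ⟨N, ⟨Φ⟩⟩ := exists_rep (G := G)
  have := hT.2.1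
  obtain ⟨htor, hmax⟩ := Torus.maximal_range Φ hT
  set T' := (ptHom iT).range with hT'
  obtain ⟨B, _, iB, hB⟩ := Conj.exists_borel G
  have := hB.1
  have := hB.2.1
  have := hB.2.2.1
  have := hB.2.2.2.1
  set BC := (ptHom iB).range with hBC
  have : PreconnectedSpace BC := Subtype.preconnectedSpace (Density.isPreconnected_range iB)
  obtain ⟨e, he⟩ := Solvable.points_of_isSolvableGrp hB.2.2.2.2.1
  have hBsol : derivedSeries BC e = ⊥ := by
    rw [eq_bot_iff, ← map_derivedSeries_eq (MonoidHom.rangeRestrict_surjective (ptHom iB)) e, he, Subgroup.map_bot]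
  have : Nonempty (Fin n) := ⟨⟨0, hn⟩⟩
  have heigen : ∀ π' : Pt G →* Matrix (Fin n) (Fin n) k, IsReg π' →
      ∃ v : Fin n → k, v ≠ 0 ∧ ∀ b ∈ BC, ∃ c : k, π' b *ᵥ v = c • v := by
    intro π' hπ'
    let ρ : BC →* Module.End k (Fin n → k) :=
      (Matrix.toLinAlgEquiv' : Matrix (Fin n) (Fin n) k ≃ₐ[k] _).toMonoidHom.comp (π'.comp BC.subtype)
    have hρ : LieKolchin.Adm ρ := fun x f c => by
      let q : MvPolynomial (Fin n × Fin n) k :=
        (∑ i, ∑ j, MvPolynomial.C (f (Pi.single i 1) * x j) * MvPolynomial.X (i, j)) - MvPolynomial.C c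
      have e : {b : BC | f (ρ b x) = c} = Subtype.val ⁻¹' {g | ev q (π' g) = 0} := by
        ext b
        have hf : ∀ y : Fin n → k, f y = ∑ i, y i * f (Pi.single i 1) := fun y => by
          conv_lhs => rw [pi_eq_sum_univ' y]
          simp
        show f (π' b *ᵥ x) = c ↔ ev q (π' b) = 0
        simp only [q, ev, map_sub, map_sum, map_mul, MvPolynomial.eval_C, MvPolynomial.eval_X, sub_eq_zero]
        rw [hf]
        simp only [Matrix.mulVec, dotProduct, Finset.sum_mul]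
        exact iff_of_eq (congrArg (· = c) (Finset.sum_congr rfl fun i _ => Finset.sum_congr rfl fun j _ => by ring))
      rw [e]
      exact (hπ'.isClosed_ev q).preimage continuous_subtype_val
    obtain ⟨v, hv, hvx⟩ := LieKolchin.exists_common_eigen e BC (Φ.good.subgroup BC) hBsol (Fin n → k) ρ hρ
    refine ⟨v, hv, fun b hb => ?_⟩
    obtain ⟨c, hc⟩ := Submodule.mem_span_singleton.1 (hvx ⟨b, hb⟩)
    exact ⟨c, hc.symm⟩
  obtain ⟨v, hv, hvB⟩ := heigen π hπ
  obtain ⟨v', hv', hvB'⟩ := heigen (dual π) hπ.dual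
  have hC := isZCl_cone hπ hv iB hB hvB
  have hC' := isZCl_cone hπ.dual hv' iB hB hvB'
  -- the characters of the torus
  let χ : Fin n → T' →* k := fun i =>
    { toFun := fun t => π t i i
      map_one' := by simp
      map_mul' := fun a b => by
        rw [Subgroup.coe_mul, map_mul, Matrix.mul_apply, Finset.sum_eq_single i]
        · intro j _ hj
          rw [hd a a.2 (Ne.symm hj), zero_mul]
        · exact fun h => absurd (Finset.mem_univ i) h }
  have hπT : ∀ (t : T') x, π t *ᵥ x = fun i => χ i t * x i := fun t x => mulVec_diag (hd t t.2) x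
  have hdT : ∀ (t : T') x, dual π t *ᵥ x = fun i => χ i t⁻¹ * x i := fun t x =>
    mulVec_diag (M := (π (t : Pt G)⁻¹)ᵀ) (hd _ (T'.inv_mem t.2)).transpose x
  have : PreconnectedSpace T' := Subtype.preconnectedSpace htor.preconnected
  obtain ⟨r, rk, hrk, hrk'⟩ := exists_rank χ fun q => by
    have e : {t : T' | MvPolynomial.eval (fun i => χ i t) q = 0} =
        Subtype.val ⁻¹' {g | ev (MvPolynomial.rename (fun i => (i, i)) q) (π g) = 0} := by
      ext t
      show MvPolynomial.eval (fun i => π t i i) q = 0 ↔ ev _ (π t) = 0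
      simp [ev, MvPolynomial.eval_rename, Function.comp_def]
    rw [e]
    exact (hπ.isClosed_ev _).preimage continuous_subtype_val
  let χ' : Fin n → T' →* k := fun i =>
    { toFun := fun t => χ i t⁻¹
      map_one' := by rw [inv_one, map_one]
      map_mul' := fun a b => by rw [_root_.mul_inv_rev, map_mul, _root_.mul_comm] }
  have hrk'' : ∀ a b : Fin n → ℕ, (∀ t : T', ∏ i, χ' i t ^ a i = ∏ i, χ' i t ^ b i) →
      ∑ i, a i • rk i = ∑ i, b i • rk i := fun a b h => hrk a b fun t => by simpa [χ'] using h t⁻¹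
  have hcone : ∀ {π' : Pt G →* Matrix (Fin n) (Fin n) k} {v₁ : Fin n → k} (c : k) (g : Pt G),
      ∀ x ∈ Cone π' v₁, c • (π' g *ᵥ x) ∈ Cone π' v₁ := by
    rintro π' v₁ c g _ ⟨g', c', rfl⟩
    exact ⟨g * g', c * c', by rw [map_mul, Matrix.mulVec_smul, smul_smul, Matrix.mulVec_mulVec]⟩
  let F : Set (Fin n → k) :=
    {f | f ∈ Cone (dual π) v' ∧ f ≠ 0 ∧ ∀ t ∈ T', ∃ c : k, dual π t *ᵥ f = c • f}
  -- the forms are fixed
  have hF : ∀ f ∈ F, ∀ s ∈ S, dual π s *ᵥ f = f := by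
    rintro f ⟨hf, hf0, hfT⟩ s hs
    obtain ⟨g, c, -, hfg, hTg⟩ := pure_borel hπ.dual iB hB hvB' iT hT.2.2.1 hf hf0 hfT
    have hBg := Conj.isBorelOver_conjBy iB hB g
    have := hBg.1
    have hsg := hS B (AGF.conjBy g iB) hBg (by rw [ToralConj.range_conjBy]; exact hTg) hs
    rw [ToralConj.range_conjBy] at hsg
    obtain ⟨b, hb, rfl⟩ := hsg
    obtain ⟨d, hd'⟩ := hvB' b hb
    have hsf : dual π (g * b * g⁻¹) *ᵥ f = d • f := by
      rw [hfg, Matrix.mulVec_smul, Matrix.mulVec_mulVec, ← map_mul, inv_mul_cancel_right, map_mul,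
        ← Matrix.mulVec_mulVec, hd', Matrix.mulVec_smul, smul_comm]
    obtain ⟨m, hm⟩ := hSn _ (S.inv_mem hs)
    have h2 : (dual π (g * b * g⁻¹) - 1) ^ m = 0 := by
      show ((π (g * b * g⁻¹)⁻¹)ᵀ - 1) ^ m = 0
      rw [← Matrix.transpose_one, ← Matrix.transpose_sub, ← Matrix.transpose_pow]
      change ((π ((MulAut.conj g).toMonoidHom b)⁻¹ - 1) ^ m)ᵀ = 0
      rw [hm, Matrix.transpose_zero]
    have h3 : ∀ j : ℕ, (dual π (g * b * g⁻¹) - 1) ^ j *ᵥ f = (d - 1) ^ j • f := fun j => by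
      induction j with
      | zero => simp
      | succ j ih =>
        rw [pow_succ, ← Matrix.mulVec_mulVec, Matrix.sub_mulVec, hsf, Matrix.one_mulVec,
          show d • f - f = (d - 1) • f by rw [sub_smul, one_smul], Matrix.mulVec_smul, ih, smul_smul, pow_succ']
    have h4 := h3 m
    rw [h2, Matrix.zero_mulVec] at h4
    have hd1 : d = 1 := sub_eq_zero.1 (eq_zero_of_pow_eq_zero ((smul_eq_zero.1 h4.symm).resolve_right hf0))
    show dual π (g * b * g⁻¹) *ᵥ f = f
    rw [hsf, hd1, one_smul]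
  -- a pair of extremal vectors
  obtain ⟨i₀, -, hmaxrk⟩ := Finset.exists_max_image Finset.univ rk Finset.univ_nonempty
  let ν := rk i₀
  have hν : ∀ i, rk i ≤ ν := fun i => hmaxrk i (Finset.mem_univ i)
  let top : (Fin n → k) → Lex (Fin r → ℤ) → Fin n → k := fun x lam i => if rk i = lam then x i else 0
  have htop_eig : ∀ {κ : Fin n → T' →* k}, (∀ i j, rk i = rk j → κ i = κ j) → ∀ (x : Fin n → k) (lam), top x lam ≠ 0 →
      ∃ i, rk i = lam ∧ ∀ t, (fun l => κ l t * top x lam l) = κ i t • top x lam := by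
    intro κ hκ x lam hx
    obtain ⟨i, hi⟩ := Function.ne_iff.1 hx
    have hilam : rk i = lam := by
      by_contra h
      exact hi (if_neg h)
    refine ⟨i, hilam, fun t => funext fun l => ?_⟩
    by_cases hl : rk l = lam
    · rw [hκ l i (hl.trans hilam.symm)]
      rfl
    · simp [top, hl]
  obtain ⟨g₁, hg₁⟩ := hirr.dual.exists_dot hv' (f := Pi.single i₀ 1) (by simp)
  rw [single_one_dotProduct] at hg₁
  set f₁ := top (dual π g₁ *ᵥ v') ν with hf₁def
  have hf₁0 : f₁ ≠ 0 := fun h0 => hg₁ (by simpa [hf₁def, top, ν] using congrFun h0 i₀)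
  have hf₁C : f₁ ∈ Cone (dual π) v' := by
    convert mem_top χ' rk hrk'' hC' (dual π g₁ *ᵥ v') (fun c t => by
    have h1 := hcone c (t : Pt G) _ (⟨g₁, 1, (one_smul _ _).symm⟩ : dual π g₁ *ᵥ v' ∈ Cone (dual π) v')
    rw [hdT] at h1
    exact h1) ν fun i _ => hν i using 2
    simp only [hf₁def, top]
    congr
  have hf₁F : f₁ ∈ F := by
    refine ⟨hf₁C, hf₁0, fun t ht => ?_⟩
    obtain ⟨i, -, hi⟩ := htop_eig (κ := χ') (fun a b h => MonoidHom.ext fun t => by
      show χ a t⁻¹ = χ b t⁻¹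
      rw [hrk' a b h]) (dual π g₁ *ᵥ v') ν hf₁0
    exact ⟨χ' i ⟨t, ht⟩, by rw [show dual π t *ᵥ f₁ = fun l => χ l (⟨t, ht⟩ : T')⁻¹ * f₁ l from hdT ⟨t, ht⟩ f₁]; exact hi _⟩
  obtain ⟨g₂, hg₂⟩ := hirr.exists_dot hv hf₁0
  set p₁ := top (π g₂ *ᵥ v) ν with hp₁def
  have hp₁f : f₁ ⬝ᵥ p₁ ≠ 0 := by
    convert hg₂ using 1
    refine Finset.sum_congr rfl fun l _ => ?_
    by_cases hl : rk l = ν <;> simp [hf₁def, hp₁def, top, hl]
  have hp₁0 : p₁ ≠ 0 := fun h0 => hp₁f (by rw [h0, dotProduct_zero])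
  have hp₁C : p₁ ∈ Cone π v := by
    convert mem_top χ rk hrk hC (π g₂ *ᵥ v) (fun c t => by
    have h1 := hcone c (t : Pt G) _ (⟨g₂, 1, (one_smul _ _).symm⟩ : π g₂ *ᵥ v ∈ Cone π v)
    rw [hπT] at h1
    exact h1) ν fun i _ => hν i using 2
    simp only [hp₁def, top]
    congr
  have heig : ∀ x lam, top x lam ≠ 0 → ∀ t ∈ T', ∃ c : k, π t *ᵥ top x lam = c • top x lam := by
    intro x lam h t ht
    obtain ⟨i, -, hi⟩ := htop_eig (κ := χ) hrk' x lam h
    exact ⟨χ i ⟨t, ht⟩, by rw [show π t *ᵥ top x lam = fun l => χ l ⟨t, ht⟩ * top x lam l from hπT ⟨t, ht⟩ _]; exact hi _⟩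
  obtain ⟨g₃, c₃, hc₃, hp₁g, hTg₃⟩ :=
    pure_borel hπ iB hB hvB iT hT.2.2.1 hp₁C hp₁0 (heig _ _ hp₁0)
  -- no common zero
  have hsep : ∀ x ∈ Cone π v, (∀ f ∈ F, f ⬝ᵥ x = 0) → x = 0 := by
    intro x hx hxF
    by_contra hx0
    let Z : Set (Fin n → k) := {y | y ∈ Cone π v ∧ ∀ f ∈ F, f ⬝ᵥ y = 0}
    have hZ : IsZCl Z := fun w hw => ⟨hC w fun q hq => hw q fun y hy => hq y hy.1, fun f hf => by
      have h1 := hw (∑ i, MvPolynomial.C (f i) * MvPolynomial.X i) fun y hy => by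
        simpa [dotProduct] using hy.2 f hf
      simpa [dotProduct] using h1⟩
    obtain ⟨i₁, hi₁, hmax₁⟩ := Finset.exists_max_image (Finset.univ.filter fun i => x i ≠ 0) rk (by
      obtain ⟨i, hi⟩ := Function.ne_iff.1 hx0
      exact ⟨i, Finset.mem_filter.2 ⟨Finset.mem_univ i, hi⟩⟩)
    set p := top x (rk i₁)
    have hpZ : p ∈ Z := by
      convert mem_top χ rk hrk hZ x (fun c t => by
      have h1 : c • (π (t : Pt G) *ᵥ x) ∈ Z := ⟨hcone c (t : Pt G) x hx, fun f hf => by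
        obtain ⟨d, hd'⟩ := hf.2.2 _ (T'.inv_mem t.2)
        have h2 := dot_dual π (t : Pt G)⁻¹ f x
        rw [hd', _root_.inv_inv, smul_dotProduct, hxF f hf, smul_zero] at h2
        rw [dotProduct_smul, ← h2, smul_zero]⟩
      rw [hπT] at h1
      exact h1) (rk i₁) fun i hi => hmax₁ i (Finset.mem_filter.2 ⟨Finset.mem_univ i, hi⟩) using 2
      simp only [p, top]
      congr
    have hp0 : p ≠ 0 := fun h0 => (Finset.mem_filter.1 hi₁).2 (by simpa [p, top] using congrFun h0 i₁)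
    obtain ⟨g, c, hc, hpg, hTg⟩ := pure_borel hπ iB hB hvB iT hT.2.2.1 hpZ.1 hp0 (heig _ _ hp0)
    have hB₃ := Conj.isBorelOver_conjBy iB hB g₃
    have hBg := Conj.isBorelOver_conjBy iB hB g
    have := hB₃.1
    have := hBg.1
    obtain ⟨m, hmT, hmB⟩ := TorusBorel.exists_conj_normalizer (AGF.conjBy g₃ iB) hB₃ (AGF.conjBy g iB) hBg htor hmax
      (by rw [ToralConj.range_conjBy]; exact hTg₃) (by rw [ToralConj.range_conjBy]; exact hTg)
    rw [ToralConj.range_conjBy, ToralConj.range_conjBy, Lin.Rep.map_conj_map_conj] at hmB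
    have hnB : g⁻¹ * (m * g₃) ∈ BC := by
      have hm' := congrArg (Subgroup.map (MulAut.conj g⁻¹).toMonoidHom) hmB
      rw [Lin.Rep.map_conj_map_conj, Lin.Rep.map_conj_map_conj, inv_mul_cancel, map_one] at hm'
      refine (Normalizer.mem_of_normalizes iB hB).le ?_
      have hm'' : BC.map (MulAut.conj (g⁻¹ * (m * g₃))).toMonoidHom = BC := hm'.trans (Subgroup.map_id _)
      refine Subgroup.mem_normalizer_iff.2 fun y =>
        ⟨fun hy => (SetLike.ext_iff.1 hm'' _).1 ⟨y, hy, rfl⟩, fun hy => ?_⟩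
      obtain ⟨z, hz, hzy⟩ := (SetLike.ext_iff.1 hm'' _).2 hy
      have : z = y := (MulAut.conj (g⁻¹ * (m * g₃))).injective hzy
      exact this ▸ hz
    obtain ⟨d, hd'⟩ := hvB _ hnB
    have hmp : π m *ᵥ p₁ = (c₃ * d / c) • p := by
      rw [hpg, hp₁g, Matrix.mulVec_smul, Matrix.mulVec_mulVec, ← map_mul,
        show m * g₃ = g * (g⁻¹ * (m * g₃)) by group, map_mul, ← Matrix.mulVec_mulVec, hd', Matrix.mulVec_smul,
        smul_smul, smul_smul, div_mul_cancel₀ _ hc]
    have hfm : dual π m *ᵥ f₁ ∈ F := by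
      have hinv : ∀ y, dual π m⁻¹ *ᵥ (dual π m *ᵥ y) = y := fun y => by
        rw [Matrix.mulVec_mulVec, ← map_mul, inv_mul_cancel, map_one, Matrix.one_mulVec]
      refine ⟨?_, fun h0 => hf₁0 (by rw [← hinv f₁, h0, Matrix.mulVec_zero]), fun t ht => ?_⟩
      · simpa using hcone 1 m _ hf₁F.1
      · rw [← hmT] at ht
        obtain ⟨t', ht', rfl⟩ := ht
        obtain ⟨e', he'⟩ := hf₁F.2.2 t' ht'
        refine ⟨e', ?_⟩
        show dual π (m * t' * m⁻¹) *ᵥ (dual π m *ᵥ f₁) = _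
        rw [Matrix.mulVec_mulVec, ← map_mul, inv_mul_cancel_right, map_mul, ← Matrix.mulVec_mulVec, he',
          Matrix.mulVec_smul]
    have h5 : (dual π m *ᵥ f₁) ⬝ᵥ (π m *ᵥ p₁) = f₁ ⬝ᵥ p₁ := by
      rw [dot_dual, Matrix.mulVec_mulVec, ← map_mul, inv_mul_cancel, map_one, Matrix.one_mulVec]
    rw [hmp, dotProduct_smul, hpZ.2 _ hfm, smul_zero] at h5
    exact hp₁f h5.symm
  -- points of the cone are fixed
  intro s hs
  have hfixed : ∀ x ∈ Cone π v, π s *ᵥ x = x := by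
    intro x hx
    have hfin : (Set.range fun s : S => π (s : Pt G) *ᵥ x).Finite :=
      (finite_fibre hC (fun c y hy => by simpa using hcone c 1 y hy) F hsep x).subset (by
        rintro _ ⟨s, rfl⟩
        refine ⟨by simpa using hcone 1 (s : Pt G) x hx, fun f hf => ?_⟩
        have h6 := dot_dual π (s : Pt G)⁻¹ f x
        rw [hF f hf _ (S.inv_mem s.2), _root_.inv_inv] at h6
        exact h6.symm)
    have : PreconnectedSpace S := Subtype.preconnectedSpace hSc
    have h7 := LieKolchin.eq_of_finite_values (fun s : S => π (s : Pt G) *ᵥ x) hfin (fun y => by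
      let q : Fin n → MvPolynomial (Fin n × Fin n) k := fun i =>
        (∑ l, MvPolynomial.C (x l) * MvPolynomial.X (i, l)) - MvPolynomial.C (y i)
      have e : (fun s : S => π (s : Pt G) *ᵥ x) ⁻¹' {y} = ⋂ i, Subtype.val ⁻¹' {g | ev (q i) (π g) = 0} := by
        ext z
        simp [q, ev, Matrix.mulVec, dotProduct, funext_iff, sub_eq_zero, _root_.mul_comm]
      rw [e]
      exact isClosed_iInter fun i => (hπ.isClosed_ev _).preimage continuous_subtype_val) ⟨s, hs⟩ 1
    simpa using h7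
  refine Matrix.toLinAlgEquiv'.injective (LinearMap.ext fun x => ?_)
  rw [map_one]
  show π s *ᵥ x = x
  have hx : x ∈ Submodule.span k (Set.range fun g => π g *ᵥ v) := by rw [hirr v hv]; trivial
  induction hx using Submodule.span_induction with
  | mem z hz => obtain ⟨g, rfl⟩ := hz; exact hfixed _ ⟨g, 1, (one_smul _ _).symm⟩
  | zero => exact Matrix.mulVec_zero _
  | add a b _ _ ha hb => rw [Matrix.mulVec_add, ha, hb]
  | smul c a _ ha => rw [Matrix.mulVec_smul, ha]

/-- Subgroups lying in all Borel subgroups through a maximal torus and acting unipotently act trivially on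
irreducible representations. -/
theorem fixes {π : Pt G →* Matrix (Fin n) (Fin n) k} (hπ : IsReg π) (hirr : IsIrred π)
    {T : Over (Spec (CommRingCat.of k))} [GrpObj T] (iT : T ⟶ G) [IsMonHom iT] (hT : AGF.IsMaxTorus iT)
    {S : Subgroup (Pt G)} (hSc : _root_.IsPreconnected (S : Set (Pt G)))
    (hS : ∀ (B : Over (Spec (CommRingCat.of k))) [GrpObj B] (iB : B ⟶ G) [IsMonHom iB], Red.IsBorelOver k iB →
      (ptHom iT).range ≤ (ptHom iB).range → S ≤ (ptHom iB).range)
    (hSn : ∀ s ∈ S, IsNilpotent (π s - 1)) : ∀ s ∈ S, π s = 1 := by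
  classical
  have := FixedPt.qc_G G
  have := GrpScheme.HomFlat.isReduced_of_smooth G.hom
  obtain ⟨N, ⟨Φ⟩⟩ := exists_rep (G := G)
  obtain ⟨htor, -⟩ := Torus.maximal_range Φ hT
  set T' := (ptHom iT).range
  obtain ⟨P, Q, hQP, hd⟩ := Lin.exists_diagonalize (π '' {x | x ∈ T' ∧ ∃ m : ℕ, (m : k) ≠ 0 ∧ x ^ m = 1})
    (by rintro _ ⟨x, ⟨hx, -⟩, rfl⟩ _ ⟨y, ⟨hy, -⟩, rfl⟩; rw [← map_mul, ← map_mul, htor.commute hx hy])
    (by
      rintro _ ⟨x, ⟨-, m, hm, hxm⟩, rfl⟩
      refine ⟨Polynomial.X ^ m - 1, ?_, ?_⟩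
      · simpa using (Polynomial.separable_X_pow_sub_C (1 : k) hm one_ne_zero).squarefree
      · rw [map_sub, map_one, Polynomial.aeval_X_pow, ← map_pow, hxm, map_one, sub_self])
  have hPQ : P * Q = 1 := mul_eq_one_comm.mp hQP
  have hc : ∀ A A' : Matrix (Fin n) (Fin n) k, P * A * Q * (P * A' * Q) = P * (A * A') * Q := fun A A' => by
    simp only [_root_.mul_assoc]
    rw [← _root_.mul_assoc Q P, hQP, _root_.one_mul]
  have hback : ∀ A : Matrix (Fin n) (Fin n) k, Q * (P * A * Q) * P = A := fun A => by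
    simp only [_root_.mul_assoc, hQP, _root_.mul_one]
    rw [← _root_.mul_assoc, hQP, _root_.one_mul]
  let π' : Pt G →* Matrix (Fin n) (Fin n) k :=
    { toFun := fun g => P * π g * Q
      map_one' := by rw [map_one, _root_.mul_one, hPQ]
      map_mul' := fun a b => by rw [map_mul, hc] }
  have hπ' : IsReg π' := hπ.sandwich fun g => rfl
  have hinv : ∀ y : Fin n → k, P *ᵥ (Q *ᵥ y) = y := fun y => by rw [Matrix.mulVec_mulVec, hPQ, Matrix.one_mulVec]
  have hirr' : IsIrred π' := fun x hx => by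
    have hx' : Q *ᵥ x ≠ 0 := fun h0 => hx (by rw [← hinv x, h0, Matrix.mulVec_zero])
    refine eq_top_iff.2 fun y _ => ?_
    have hy : Q *ᵥ y ∈ Submodule.span k (Set.range fun g => π g *ᵥ (Q *ᵥ x)) := by rw [hirr _ hx']; trivial
    have h1 := Submodule.mem_map_of_mem (f := Matrix.mulVecLin P) hy
    rw [Submodule.map_span, Matrix.mulVecLin_apply, hinv] at h1
    refine Submodule.span_mono ?_ h1
    rintro _ ⟨_, ⟨g, rfl⟩, rfl⟩
    exact ⟨g, show (P * π g * Q) *ᵥ x = P *ᵥ (π g *ᵥ (Q *ᵥ x)) by simp [Matrix.mulVec_mulVec, Matrix.mul_assoc]⟩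
  have hdiag : ∀ t ∈ T', (π' t).IsDiag := by
    let q : Fin n → Fin n → MvPolynomial (Fin n × Fin n) k := fun i j => Lin.sandwich P Q (i, j)
    intro t ht i j hij
    have hsub : {x | x ∈ T' ∧ ∃ m : ℕ, (m : k) ≠ 0 ∧ x ^ m = 1} ⊆ {g | ev (q i j) (π g) = 0} := fun x hx => by
      show ev (Lin.sandwich P Q (i, j)) (π x) = 0
      rw [Lin.ev_sandwich]
      exact hd _ ⟨x, hx, rfl⟩ hij
    have h := closure_minimal hsub (hπ.isClosed_ev _) (htor.closure_torsion ht)
    change ev (Lin.sandwich P Q (i, j)) (π t) = 0 at h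
    rw [Lin.ev_sandwich] at h
    exact h
  intro s hs
  have h := fixes_diag hπ' hirr' iT hT hdiag hSc hS (fun x hx => by
    obtain ⟨m, hm⟩ := hSn x hx
    refine ⟨m + 1, ?_⟩
    have e : π' x - 1 = P * (π x - 1) * Q := by rw [mul_sub, sub_mul, _root_.mul_one, hPQ]; rfl
    have hp : ∀ j : ℕ, (P * (π x - 1) * Q) ^ (j + 1) = P * (π x - 1) ^ (j + 1) * Q := fun j => by
      induction j with
      | zero => rw [pow_one, pow_one]
      | succ j ih => rw [pow_succ, ih, hc, ← pow_succ]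
    rw [e, hp, pow_succ, hm, zero_mul, mul_zero, zero_mul]) s hs
  have h' : P * π s * Q = 1 := h
  rw [← hback (π s), h', _root_.mul_one, hQP]

end Groth.Agent.Borel50.Luna
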