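import Groth.Agent.Borel50.Luna.Apps
import Groth.Agent.Borel50.Luna.Apps2
import Groth.Agent.RedPts.Basic

/-!
# Reductive groups have no homomorphisms to the additive group
-/

set_option autoImplicit false
universe u

open CategoryTheory MonoidalCategory CartesianMonoidalCategory MonObj GrpObj AlgebraicGeometry Limits

noncomputable section

namespace Groth.Agent.Borel50.Luna.HomGa

open Groth.Agent.Borel50.Pts Groth.Agent.Borel50.Lin Groth.Agent.Borel50.Density Groth.Agent.Borel50.GeomTorus

attribute [local instance] ptTop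

/-- The transpose of a point of a base change. -/
def tr {S S' : Scheme.{u}} (q : S' ⟶ S) {G : Over S} {X : Over S'} (x : X ⟶ Red.bc q G) :
    (Over.map q).obj X ⟶ G :=
  ((Over.mapPullbackAdj q).homEquiv X G).symm x

lemma tr_left {S S' : Scheme.{u}} (q : S' ⟶ S) {G : Over S} {X : Over S'} (x : X ⟶ Red.bc q G) :
    (tr q x).left = x.left ≫ pullback.fst G.hom q := by
  simp [tr, Adjunction.homEquiv_counit]

lemma tr_mul {S S' : Scheme.{u}} (q : S' ⟶ S) {G : Over S} [GrpObj G] {X : Over S'} (x y : X ⟶ Red.bc q G) :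
    tr q (x * y) = tr q x * tr q y := by
  apply ((Over.mapPullbackAdj q).homEquiv X G).injective
  conv_lhs => rw [tr, Equiv.apply_symm_apply]
  rw [Adjunction.homEquiv_unit, Functor.map_mul, MonObj.comp_mul,
    ← Adjunction.homEquiv_unit, ← Adjunction.homEquiv_unit]
  simp only [tr, Equiv.apply_symm_apply]

/-- A global function on an affine line over a field vanishes outside the basic open. -/
lemma mem_basicOpen_iff {K : Type u} [Field K] {X : Scheme.{u}} (w : Spec (CommRingCat.of K) ⟶ X) (f : Γ(X, ⊤))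
    (p : Spec (CommRingCat.of K)) : w p ∈ X.basicOpen f ↔ w.appTop f ≠ 0 := by
  have h : w p ∈ X.basicOpen f ↔ p ∈ (Spec (CommRingCat.of K)).basicOpen (w.appTop f) := by
    rw [← Scheme.preimage_basicOpen_top]
    rfl
  rw [h]
  constructor
  · intro hp h0
    rw [h0, Scheme.basicOpen_zero] at hp
    exact hp
  · intro hne
    let e := Scheme.ΓSpecIso (CommRingCat.of K)
    have hu : IsUnit (e.hom (w.appTop f)) := isUnit_iff_ne_zero.2 fun h0 => hne <| by
      have : e.inv (e.hom (w.appTop f)) = e.inv 0 := congrArg e.inv h0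
      rwa [Iso.hom_inv_id_apply, map_zero] at this
    have hu' : IsUnit (w.appTop f) := by
      have := hu.map e.inv.hom
      rwa [show e.inv.hom (e.hom (w.appTop f)) = w.appTop f from Iso.hom_inv_id_apply e _] at this
    rw [Scheme.basicOpen_of_isUnit _ hu']
    trivial

variable {k : Type u} [Field k] {G : Over (Spec (CommRingCat.of k))} [GrpObj G]

/-- A homomorphism from a reductive group to the additive group is trivial. -/
theorem eq_one (hG : Red.IsReductive G) (φ : G ⟶ Red.Ga (Spec (CommRingCat.of k))) [IsMonHom φ] : φ = 1 := by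
  classical
  obtain ⟨_, _, _, hred⟩ := Apps.facts hG
  set K := AlgebraicClosure ((Spec (CommRingCat.of k)).residueField (cp k))
  set G' := Red.bc (gp k) G with hG'
  obtain ⟨_, _, _⟩ := OverField.facts_bc (gp k) G
  have := FixedPt.qc_G G'
  have := GrpScheme.HomFlat.isReduced_of_smooth G.hom
  have := GrpScheme.HomFlat.isReduced_of_smooth G'.hom
  let q : G'.left ⟶ G.left := pullback.fst G.hom (gp k)
  let f := Red.gaFn φ
  let f' : Γ(G'.left, ⊤) := q.appTop f
  let ψ : Pt G' → Γ(Spec (CommRingCat.of K), ⊤) := fun w => Red.gaFn (tr (gp k) w ≫ φ)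
  have hψ : ∀ w : Pt G', ψ w = w.left.appTop f' := fun w => by
    show Red.gaFn (tr (gp k) w ≫ φ) = _
    rw [RedPts.ga_comp, tr_left, Scheme.Hom.comp_appTop]
    rfl
  have hmul : ∀ x y, ψ (x * y) = ψ x + ψ y := fun x y => by
    show Red.gaFn _ = _
    rw [tr_mul]
    exact (congrArg Red.gaFn (MonObj.mul_comp (tr (gp k) x) (tr (gp k) y) φ)).trans (RedPts.ga_mul _ _)
  let Ψ : Pt G' →* Multiplicative Γ(Spec (CommRingCat.of K), ⊤) :=
    MonoidHom.mk' (fun w => Multiplicative.ofAdd (ψ w)) fun x y => by rw [hmul]; rfl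
  let Z : Set G'.left := ((G'.left.basicOpen f' : G'.left.Opens) : Set G'.left)ᶜ
  have hker : ∀ w, w ∈ Ψ.ker ↔ pt w ∈ Z := fun w => by
    show ψ w = 0 ↔ ¬ pt w ∈ G'.left.basicOpen f'
    rw [hψ w]
    exact (not_iff_not.2 (mem_basicOpen_iff w.left f' _)).trans not_not |>.symm
  have hcl : IsClosed (Ψ.ker : Set (Pt G')) := by
    have e : (Ψ.ker : Set (Pt G')) = pt ⁻¹' Z := Set.ext hker
    rw [e]
    exact (G'.left.basicOpen f').isOpen.isClosed_compl.preimage continuous_induced_dom
  obtain ⟨N, ⟨Φ⟩⟩ := exists_rep (G := G')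
  have hbot : Φ.IsToral ⊥ := ⟨by rw [Subgroup.coe_bot]; exact Φ.isClosed_singleton 1,
    by rw [Subgroup.coe_bot]; exact isPreconnected_singleton,
    1, 1, _root_.one_mul 1, fun x hx => by
      rw [Subgroup.mem_bot.1 hx, map_one, _root_.one_mul, _root_.one_mul]; exact Matrix.isDiag_one⟩
  obtain ⟨T', hT', -, hmax⟩ := hbot.exists_maximal
  obtain ⟨T, _, iT, _, hT, hTr⟩ := Apps2.exists_maxTorus Φ hT' hmax
  have hTker : T' ≤ Ψ.ker := fun t ht => by
    refine closure_minimal ?_ hcl (hT'.closure_torsion ht)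
    rintro x ⟨-, n, hn, hxn⟩
    have h1 : n • ψ x = 0 := by
      have := congrArg Ψ hxn
      rw [map_pow, map_one] at this
      exact congrArg Multiplicative.toAdd this
    show ψ x = 0
    rw [nsmul_eq_mul] at h1
    have hu : IsUnit (n : Γ(Spec (CommRingCat.of K), ⊤)) := by
      have h := (isUnit_iff_ne_zero.2 hn).map (Scheme.ΓSpecIso (CommRingCat.of K)).inv.hom
      rwa [map_natCast] at h
    exact hu.mul_right_eq_zero.1 h1
  have hC : Subgroup.centralizer (T' : Set (Pt G')) = T' := by
    rw [← hTr]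
    exact centralizer_eq_self hred iT hT
  obtain ⟨V, ⟨p, hp⟩, hsub⟩ := Cartan.exists_open_cartan Φ hT' hmax
  have hVker : ∀ x : Pt G', pt x ∈ V → pt x ∈ Z := fun x hx => by
    obtain ⟨g, hg⟩ := hsub x hx
    rw [hC] at hg
    have h := hTker hg
    rw [← hker, MonoidHom.mem_ker]
    rw [MonoidHom.mem_ker, map_mul, map_mul, map_inv, mul_comm (Ψ g)⁻¹, inv_mul_cancel_right] at h
    exact h
  have : LocallyOfFiniteType G'.hom := inferInstance
  have : JacobsonSpace G'.left := LocallyOfFiniteType.jacobsonSpace G'.hom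
  have : IrreducibleSpace G'.left := by
    have h1 : irreducibleComponent (GrpScheme.IdComponent.e₀ G') = Set.univ := by
      rw [← GrpScheme.IdComponent.connectedComponent_eq]
      exact PreconnectedSpace.connectedComponent_eq_univ _
    exact { toPreirreducibleSpace := ⟨h1 ▸ isIrreducible_irreducibleComponent.2⟩
            toNonempty := ⟨GrpScheme.IdComponent.e₀ G'⟩ }
  have hbot : G'.left.basicOpen f' = ⊥ := by
    by_contra hne
    obtain ⟨z, hz⟩ : ((G'.left.basicOpen f' : G'.left.Opens) : Set G'.left).Nonempty := by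
      rw [Set.nonempty_iff_ne_empty]
      exact fun h => hne (TopologicalSpace.Opens.ext (by rw [h]; rfl))
    obtain ⟨y, hy⟩ := nonempty_preirreducible_inter V.isOpen (G'.left.basicOpen f').isOpen ⟨p, hp⟩ ⟨z, hz⟩
    obtain ⟨y', ⟨hy'V, hy'f⟩, hyc⟩ := nonempty_inter_closedPoints ⟨y, hy⟩
      (V.isOpen.inter (G'.left.basicOpen f').isOpen).isLocallyClosed
    obtain ⟨w, rfl⟩ := exists_pt hyc
    exact hVker w hy'V hy'f
  have := BaseChange.surjective_g (gp k)
  have : Surjective q := MorphismProperty.pullback_fst (P := @Surjective) _ _ ‹_›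
  have hf : f = 0 := by
    refine (basicOpen_eq_bot_iff f).1 (TopologicalSpace.Opens.ext (Set.eq_empty_of_forall_notMem fun x hx => ?_))
    obtain ⟨y, rfl⟩ := q.surjective x
    have hy : y ∈ q ⁻¹ᵁ G.left.basicOpen f := hx
    rw [Scheme.preimage_basicOpen_top, show G'.left.basicOpen (q.appTop f) = ⊥ from hbot] at hy
    exact hy
  refine RedPts.ga_injective ?_
  have h1 : Red.gaFn (1 : G ⟶ Red.Ga (Spec (CommRingCat.of k))) = 0 := by
    have h := RedPts.ga_mul (toUnit G ≫ η[Red.Ga (Spec (CommRingCat.of k))]) (toUnit G ≫ η[Red.Ga (Spec (CommRingCat.of k))])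
    rw [← Hom.one_def, _root_.one_mul] at h
    exact left_eq_add.1 h
  exact hf.trans h1.symm

end Groth.Agent.Borel50.Luna.HomGa
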