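import Groth.Agent.Borel50.Luna.Unip

/-!
# The image of the unipotent radical
-/

set_option autoImplicit false
universe u

open CategoryTheory MonoidalCategory CartesianMonoidalCategory MonObj GrpObj AlgebraicGeometry Limits

noncomputable section

namespace Groth.Agent.Borel50.Luna.Image

open Groth.Agent.Borel50.Pts Groth.Agent.Borel50.Lin Groth.Agent.Borel50.Density

attribute [local instance] ptTop

variable {k : Type u} [Field k] [IsAlgClosed k] {G H : Over (Spec (CommRingCat.of k))} [GrpObj G] [GrpObj H]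
  [IsAffine G.left] [Smooth G.hom] [ConnectedSpace G.left] [IsAffine H.left] [Smooth H.hom]

/-- A closed connected normal unipotent subgroup of points lies in the unipotent radical. -/
theorem le_radical {N : ℕ} (Φ : Rep k (Pt G) N) {U : Over (Spec (CommRingCat.of k))} [GrpObj U] (u : U ⟶ G)
    (hU : Par.IsUnipotentRadical u) [IsMonHom u] {R : Subgroup (Pt G)} (hR : IsClosed (R : Set (Pt G)))
    (hRc : _root_.IsPreconnected (R : Set (Pt G))) (hRn : ∀ g : Pt G, ∀ x ∈ R, g * x * g⁻¹ ∈ R)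
    (hRu : ∀ x ∈ R, IsNilpotent (Φ.ρ x - 1)) : R ≤ (ptHom u).range := by
  have := FixedPt.qc_G G
  obtain ⟨K, _, iK, _, _, _, _, hmem, hconn⟩ := exists_sub R hR
  have := hconn hRc
  have : IsAffine K.left := isAffine_of_isAffineHom iK.left
  have : Mono iK := Over.mono_of_mono_left iK
  have hno : Red.HasNoSubtorus k K :=
    RadicalScheme.hasNoSubtorus_of_isNilpotent Φ iK fun w => hRu _ ((hmem _).2 ⟨w, rfl⟩)
  obtain ⟨f, hf⟩ := hU.2.2.2.2.2.2 K iK ‹_› (NormalClosure.isNormalHom_of_points iK (by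
      rintro g _ ⟨w, rfl⟩
      obtain ⟨z, hz⟩ := (hmem _).1 (hRn g _ ((hmem _).2 ⟨w, rfl⟩))
      exact ⟨z, hz⟩)) ‹_› ‹_› (UnipRadical.geom_of_noSubtorus hno)
  intro x hx
  obtain ⟨w, rfl⟩ := (hmem x).1 hx
  exact ⟨w ≫ f, show (w ≫ f) ≫ u = w ≫ iK by rw [Category.assoc, hf]⟩

omit [ConnectedSpace G.left] in
/-- Points of the unipotent radical map to unipotent points. -/
theorem isNilpotent_image {U : Over (Spec (CommRingCat.of k))} [GrpObj U] [IsAffine U.left] [Smooth U.hom]
    [ConnectedSpace U.left] (hU : Red.HasNoSubtorus k U) (q : U ⟶ H) [IsMonHom q] {M : ℕ} (Ψ : Rep k (Pt H) M)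
    (w : Pt U) : IsNilpotent (Ψ.ρ (w ≫ q) - 1) := by
  have := FixedPt.qc_G U
  have := GrpScheme.HomFlat.isReduced_of_smooth U.hom
  obtain ⟨r, ⟨Φ₀⟩⟩ := exists_rep (G := U)
  obtain ⟨P, Q, hQP, hup, hun⟩ := UnipGroup.unipotent_of_noSubtorus hU Φ₀
  exact UnipMap.isNilpotent_map (Φ₀.conj P Q hQP) hup Ψ q (hun w)

/-- A surjective homomorphism carries the unipotent radical onto the unipotent radical. -/
theorem exists_surjective [ConnectedSpace H.left] (π : G ⟶ H) [IsMonHom π] [Surjective π.left]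
    {U : Over (Spec (CommRingCat.of k))} [GrpObj U] (u : U ⟶ G) (hU : Par.IsUnipotentRadical u)
    {U' : Over (Spec (CommRingCat.of k))} [GrpObj U'] (u' : U' ⟶ H) (hU' : Par.IsUnipotentRadical u') :
    ∃ f : U ⟶ U', f ≫ u' = u ≫ π ∧ Surjective f.left := by
  classical
  have := FixedPt.qc_G G
  have := FixedPt.qc_G H
  have := GrpScheme.HomFlat.isReduced_of_smooth G.hom
  have := GrpScheme.HomFlat.isReduced_of_smooth H.hom
  have := hU.1
  have := hU'.1
  obtain ⟨-, hcu, hnu, hsu, hqu, hgu, -⟩ := id hU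
  obtain ⟨-, hcu', hnu', hsu', hqu', hgu', -⟩ := id hU'
  obtain ⟨s⟩ : Nonempty ↥(Spec (CommRingCat.of k)) := inferInstanceAs (Nonempty (PrimeSpectrum k))
  have := UnipBorel.connected_of_geom s U (hgu s).1
  have := UnipBorel.connected_of_geom s U' (hgu' s).1
  have hUn : Red.HasNoSubtorus k U := UnipRadical.hasNoSubtorus_of_bc _ (hgu s).2
  have hUn' : Red.HasNoSubtorus k U' := UnipRadical.hasNoSubtorus_of_bc _ (hgu' s).2
  have := hcu
  have := hsu
  have := hcu'
  have := hsu'
  have : IsAffine U.left := isAffine_of_isAffineHom u.left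
  have : IsAffine U'.left := isAffine_of_isAffineHom u'.left
  have := GrpScheme.HomFlat.isReduced_of_smooth U.hom
  have := GrpScheme.HomFlat.isReduced_of_smooth U'.hom
  have := FixedPt.qc_G U
  have := FixedPt.qc_G U'
  have : Mono u' := Over.mono_of_mono_left u'
  obtain ⟨N, ⟨Φ⟩⟩ := exists_rep (G := G)
  obtain ⟨M, ⟨Ψ⟩⟩ := exists_rep (G := H)
  have hsurj := fun y : Pt H => Conj.surjective_pts π y
  set S := (ptHom (u ≫ π)).range with hS
  have hSle : S ≤ (ptHom u').range := by
    refine le_radical Ψ u' hU' ?_ (Density.isPreconnected_range _) ?_ ?_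
    · have e : S = ((ptHom u).range).map (ptHom π) := by
        rw [hS, MonoidHom.map_range]
        congr 1
      rw [e]
      exact isClosed_map π _ (Density.isClosed_range u)
    · intro g x hx
      obtain ⟨w, rfl⟩ := hx
      obtain ⟨g', rfl⟩ := hsurj g
      obtain ⟨w', hw'⟩ := hnu _ g' w
      refine ⟨w', ?_⟩
      show w' ≫ u ≫ π = ptHom π g' * (w ≫ u ≫ π) * (ptHom π g')⁻¹
      rw [← Category.assoc, ← hw', MonObj.mul_comp, MonObj.mul_comp, GrpObj.inv_comp, Category.assoc]
      rfl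
    · rintro _ ⟨w, rfl⟩
      exact isNilpotent_image hUn (u ≫ π) Ψ w
  obtain ⟨f, hf⟩ := factor_of_points (u ≫ π) u' fun w => by
    obtain ⟨z, hz⟩ := hSle ⟨w, rfl⟩
    exact mem_range_of_factor hz
  have : IsMonHom f :=
    { one_hom := by rw [← cancel_mono u', Category.assoc, hf, IsMonHom.one_hom (u ≫ π), IsMonHom.one_hom u']
      mul_hom := by
        rw [← cancel_mono u', Category.assoc, hf, IsMonHom.mul_hom (u ≫ π), Category.assoc, IsMonHom.mul_hom u',
          MonoidalCategory.tensorHom_comp_tensorHom_assoc, hf] }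
  refine ⟨f, hf, ?_⟩
  obtain ⟨R, hR, hRc, hRn, hRu, hle⟩ := Unip.exists_unip_cover Φ Ψ π hsurj (ptHom u').range
    (Density.isClosed_range u') (Density.isPreconnected_range u')
    (fun g x hx => by
      obtain ⟨w, rfl⟩ := hx
      obtain ⟨w', hw'⟩ := hnu' _ g w
      exact ⟨w', hw'.symm⟩)
    (fun x hx => (UnipRadical.pts_facts u' hUn').2 Ψ x hx)
  have hpts : ∀ w : Pt U', ∃ z : Pt U, z ≫ f = w := by
    intro w
    obtain ⟨x, hx, he⟩ := hle ⟨w, rfl⟩
    obtain ⟨z, rfl⟩ := le_radical Φ u hU hR hRc hRn hRu hx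
    refine ⟨z, (cancel_mono u').1 ?_⟩
    rw [Category.assoc, hf, ← Category.assoc]
    exact he
  have : QuasiCompact (f.left ≫ U'.hom) := by rw [Over.w f]; infer_instance
  have : QuasiCompact f.left := QuasiCompact.of_comp _ U'.hom
  have : JacobsonSpace U'.left := LocallyOfFiniteType.jacobsonSpace U'.hom
  refine ⟨fun y => ?_⟩
  have h : closedPoints U'.left ⊆ Set.range f.left := by
    intro z hz
    obtain ⟨w, rfl⟩ := exists_pt hz
    obtain ⟨v, rfl⟩ := hpts w
    exact ⟨pt v, rfl⟩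
  have hy : y ∈ closure (closedPoints U'.left) := by rw [closure_closedPoints]; trivial
  exact closure_minimal h (GrpScheme.ClosedImage.isClosed_range f) hy

end Groth.Agent.Borel50.Luna.Image
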