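import Groth.Agent.Borel50.Luna.Apps
import Groth.Agent.Borel50.Luna.Apps2
import Groth.Agent.Borel50.TorusImage
import Groth.Agent.AGFQuot.Basic
import Groth.Agent.S5247

/-!
# Maximal tori and central isogenies
-/

set_option autoImplicit false
universe u

open CategoryTheory MonoidalCategory CartesianMonoidalCategory MonObj GrpObj AlgebraicGeometry Limits

noncomputable section

namespace Groth.Agent.Borel50.Luna.Isog

open Groth.Agent.Borel50.Pts Groth.Agent.Borel50.Lin Groth.Agent.Borel50.Density Groth.Agent.Borel50.GeomTorus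
open Groth.Agent.DiagRig (bcTr bcTr_mul bcTr_map bcTr_injective)

attribute [local instance] ptTop

section General

variable {k : Type u} [Field k] {G H S T : Over (Spec (CommRingCat.of k))} [GrpObj G] [GrpObj H] [GrpObj S] [GrpObj T]

/-- A subgroup containing the kernel is the preimage of its image. -/
theorem isPullback [IsReduced T.left] [LocallyOfFiniteType S.hom] [LocallyOfFiniteType T.hom]
    (f : G ⟶ H) [IsMonHom f] (j : S ⟶ G) [IsMonHom j] [Mono j] (i : T ⟶ H) [IsMonHom i] [Mono i]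
    (v : S ⟶ T) [Surjective v.left] (hv : v ≫ i = j ≫ f)
    (hker : ∀ (X : Over (Spec (CommRingCat.of k))) (x : X ⟶ G), x ≫ f = 1 → ∃ s : X ⟶ S, s ≫ j = x) :
    IsPullback j v f i := by
  have : IsMonHom (v ≫ i) := hv ▸ inferInstance
  have : IsMonHom v :=
    { one_hom := by rw [← cancel_mono i, Category.assoc, IsMonHom.one_hom (v ≫ i), IsMonHom.one_hom i]
      mul_hom := by
        rw [← cancel_mono i, Category.assoc, IsMonHom.mul_hom (v ≫ i), Category.assoc, IsMonHom.mul_hom i,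
          MonoidalCategory.tensorHom_comp_tensorHom_assoc] }
  have := GrpScheme.HomFlat.flat_of_surjective v
  have := GrpdLib.GrpOver.lfp_left v
  have hc : AGFQuot.Basic.IsCover v := ⟨‹_›, ‹_›, ‹_›⟩
  have key : ∀ (X : Over (Spec (CommRingCat.of k))) (x : X ⟶ G) (t : X ⟶ T), x ≫ f = t ≫ i →
      ∃ s : X ⟶ S, s ≫ j = x := by
    intro X x t e
    obtain ⟨X', c, g, hcov, hg⟩ := hc.exists_lift t
    obtain ⟨n, hn⟩ := hker X' ((g ≫ j)⁻¹ * (c ≫ x)) (by
      rw [MonObj.mul_comp, GrpObj.inv_comp, Category.assoc, Category.assoc, e, ← hv, ← Category.assoc g, hg,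
        Category.assoc, inv_mul_cancel])
    have hd : (g * n) ≫ j = c ≫ x := by rw [MonObj.mul_comp, hn, mul_inv_cancel_left]
    have := hcov.effectiveEpi
    obtain ⟨s, hs, -⟩ := GrpdLib.GrpOver.existsUnique_desc c (g * n) fun W a b hab => (cancel_mono j).1 (by
      rw [Category.assoc, Category.assoc, hd, ← Category.assoc, hab, Category.assoc])
    exact ⟨s, hcov.cancel (by rw [← Category.assoc, hs, hd])⟩
  refine ⟨⟨hv.symm⟩, ⟨PullbackCone.IsLimit.mk _ (fun s => (key s.pt s.fst s.snd s.condition).choose)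
    (fun s => (key s.pt s.fst s.snd s.condition).choose_spec) (fun s => ?_) (fun s m hm _ => ?_)⟩⟩
  · rw [← cancel_mono i, Category.assoc, hv, ← Category.assoc,
      (key s.pt s.fst s.snd s.condition).choose_spec, s.condition]
  · rw [← cancel_mono j, hm, (key s.pt s.fst s.snd s.condition).choose_spec]

end General

section Closed

variable {K : Type u} [Field K] [IsAlgClosed K] {G H : Over (Spec (CommRingCat.of K))} [GrpObj G] [GrpObj H]

/-- The image of a maximal torus is a maximal torus. -/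
theorem maximal_image [IsAffine G.left] [Smooth G.hom] [ConnectedSpace G.left] [IsAffine H.left] [Smooth H.hom]
    [ConnectedSpace H.left] (q : G ⟶ H) [IsMonHom q] [Surjective q.left] {N M : ℕ} (Φ : Rep K (Pt G) N)
    (Ψ : Rep K (Pt H) M) {T : Subgroup (Pt G)} (hT : Φ.IsToral T) (hmax : ∀ S, Φ.IsToral S → T ≤ S → S = T) :
    Ψ.IsToral (T.map (ptHom q)) ∧ ∀ S, Ψ.IsToral S → T.map (ptHom q) ≤ S → S = T.map (ptHom q) := by
  have := FixedPt.qc_G G
  have := FixedPt.qc_G H
  have := GrpScheme.HomFlat.isReduced_of_smooth G.hom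
  have := GrpScheme.HomFlat.isReduced_of_smooth H.hom
  have hcl := isClosed_map q T hT.closed
  obtain ⟨L, _, iL, _, _, _, _, hmem, hconn⟩ := exists_sub (T.map (ptHom q)) hcl
  have := hconn (hT.preconnected.image _ (continuous_comp q).continuousOn)
  have : IsAffine L.left := isAffine_of_isAffineHom iL.left
  have : Mono iL := Over.mono_of_mono_left iL
  have hr : (ptHom iL).range = T.map (ptHom q) :=
    le_antisymm (by rintro _ ⟨w, rfl⟩; exact (hmem _).2 ⟨w, rfl⟩) fun x hx => (hmem x).1 hx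
  have hL : Red.IsTorus L := by
    refine TorusSch.isTorus_of_points {w : Pt L | ∃ t ∈ T, (∃ n : ℕ, (n : K) ≠ 0 ∧ t ^ n = 1) ∧ w ≫ iL = t ≫ q}
      ?_ ?_ ?_
    · rintro x ⟨s, hs, -, hx⟩ y ⟨t, ht, -, hy⟩
      refine ptHom_injective iL ?_
      rw [map_mul, map_mul]
      show (x ≫ iL) * (y ≫ iL) = (y ≫ iL) * (x ≫ iL)
      rw [hx, hy, ← MonObj.mul_comp, ← MonObj.mul_comp, hT.commute hs ht]
    · rintro x ⟨t, ht, ⟨n, hn, htn⟩, hx⟩
      refine ⟨n, hn, ptHom_injective iL ?_⟩
      rw [map_pow, map_one]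
      show (x ≫ iL) ^ n = 1
      rw [hx]
      show (ptHom q t) ^ n = 1
      rw [← map_pow, htn, map_one]
    · refine Set.eq_univ_of_forall fun w => ?_
      obtain ⟨t, ht, he⟩ : w ≫ iL ∈ T.map (ptHom q) := hr.le ⟨w, rfl⟩
      have hind : Topology.IsInducing (fun x : Pt L => x ≫ iL) :=
        ⟨by
          show TopologicalSpace.induced pt inferInstance =
            TopologicalSpace.induced (fun x : Pt L => x ≫ iL) (TopologicalSpace.induced pt inferInstance)
          rw [induced_compose, show (pt ∘ fun x : Pt L => x ≫ iL) = (iL.left.base : L.left → H.left) ∘ pt from rfl,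
            ← induced_compose, ← iL.left.isClosedEmbedding.isInducing.eq_induced]⟩
      rw [hind.closure_eq_preimage_closure_image]
      refine closure_mono ?_ (show w ≫ iL ∈ closure ((fun t : Pt G => t ≫ q) '' {t | t ∈ T ∧ ∃ n : ℕ, (n : K) ≠ 0 ∧ t ^ n = 1})
        from he ▸ map_mem_closure (continuous_comp q) (hT.closure_torsion ht) fun y hy => ⟨y, hy, rfl⟩)
      rintro _ ⟨y, ⟨hy, hyn⟩, rfl⟩
      obtain ⟨z, hz⟩ := (hmem (y ≫ q)).1 ⟨y, hy, rfl⟩
      exact ⟨z, ⟨y, hy, hyn, hz⟩, hz⟩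
  have hTim : Ψ.IsToral (T.map (ptHom q)) := hr ▸ Torus.isToral_range Ψ iL hL
  refine ⟨hTim, fun S hS hle => ?_⟩
  obtain ⟨y, hy⟩ := TorusImage.exists_conj_le q Ψ Φ hT hmax hTim hS
  have h1 : (T.map (ptHom q)).map (MulAut.conj y).toMonoidHom = T.map (ptHom q) :=
    Rep.map_conj_eq_of_le Ψ _ hcl y ((Subgroup.map_mono hle).trans hy)
  refine le_antisymm (fun s hs => ?_) hle
  obtain ⟨r, hr', he⟩ := (h1.ge (hy ⟨s, hs, rfl⟩) : _ ∈ (T.map (ptHom q)).map (MulAut.conj y).toMonoidHom)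
  exact (MulAut.conj y).injective he ▸ hr'

/-- The preimage of a maximal torus under a surjection with central kernel is a maximal torus. -/
theorem exists_preimage (hG : Red.IsReductiveOver K G) (hH : Red.IsReductiveOver K H) (f : G ⟶ H) [IsMonHom f]
    [Surjective f.left]
    (hcen : ∀ (X : Over (Spec (CommRingCat.of K))) (x : X ⟶ G), x ≫ f = 1 →
      ∀ (X' : Over (Spec (CommRingCat.of K))) (y : X' ⟶ X) (h : X' ⟶ G), (y ≫ x) * h = h * (y ≫ x))
    {T : Over (Spec (CommRingCat.of K))} [GrpObj T] (i : T ⟶ H) [IsMonHom i] (hT : AGF.IsMaxTorus i) :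
    ∃ (S : Over (Spec (CommRingCat.of K))) (_ : GrpObj S) (j : S ⟶ G) (v : S ⟶ T), AGF.IsMaxTorus j ∧
      IsPullback j v f i := by
  classical
  obtain ⟨_, _, _, -⟩ := id hG
  obtain ⟨_, _, _, -⟩ := id hH
  have := FixedPt.qc_G G
  have := FixedPt.qc_G H
  have := GrpScheme.HomFlat.isReduced_of_smooth G.hom
  have := GrpScheme.HomFlat.isReduced_of_smooth H.hom
  have := hT.2.1
  obtain ⟨N, ⟨Φ⟩⟩ := exists_rep (G := G)
  obtain ⟨M, ⟨Ψ⟩⟩ := exists_rep (G := H)
  have hbot : Φ.IsToral ⊥ := ⟨by rw [Subgroup.coe_bot]; exact Φ.isClosed_singleton 1,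
    by rw [Subgroup.coe_bot]; exact isPreconnected_singleton,
    1, 1, _root_.one_mul 1, fun x hx => by
      rw [Subgroup.mem_bot.1 hx, map_one, _root_.one_mul, _root_.one_mul]; exact Matrix.isDiag_one⟩
  obtain ⟨T₀, hT₀, -, hmax₀⟩ := hbot.exists_maximal
  obtain ⟨hTim, hTimmax⟩ := maximal_image f Φ Ψ hT₀ hmax₀
  obtain ⟨h1, h2⟩ := Torus.maximal_range Ψ hT
  obtain ⟨y, hy⟩ := ToralConj.toral_conj hTim hTimmax h1 h2
  obtain ⟨x, rfl⟩ := Conj.surjective_pts f y
  set T₁ := T₀.map (MulAut.conj x).toMonoidHom with hT₁def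
  have hT₁ : Φ.IsToral T₁ := hT₀.map_conj x
  have hmax₁ : ∀ R, Φ.IsToral R → T₁ ≤ R → R = T₁ := fun R hR hle => by
    have h := hmax₀ (R.map (MulAut.conj x⁻¹).toMonoidHom) (hR.map_conj x⁻¹)
      fun r hr => ⟨x * r * x⁻¹, hle ⟨r, hr, rfl⟩, by simp [_root_.mul_assoc]⟩
    rw [hT₁def, ← h, Rep.map_conj_map_conj, mul_inv_cancel, map_one]
    exact (Subgroup.map_id R).symm
  obtain ⟨S, _, j, _, hS, hjr⟩ := Apps2.exists_maxTorus Φ hT₁ hmax₁
  have := hS.2.1
  obtain ⟨_, _, _, _, -, -⟩ := TorusSch.torus_facts hS.2.2.1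
  obtain ⟨_, _, _, _, -, -⟩ := TorusSch.torus_facts hT.2.2.1
  have := GrpScheme.HomFlat.isReduced_of_smooth S.hom
  have := GrpScheme.HomFlat.isReduced_of_smooth T.hom
  have : IsClosedImmersion i.left := Torus.isClosedImmersion_of_torus i hT.2.2.1
  have : IsClosedImmersion j.left := Torus.isClosedImmersion_of_torus j hS.2.2.1
  have himg : T₁.map (ptHom f) = (ptHom i).range := by
    rw [← hy, hT₁def, Subgroup.map_map, Subgroup.map_map]
    congr 1
    ext w : 1
    show ptHom f (x * w * x⁻¹) = ptHom f x * ptHom f w * (ptHom f x)⁻¹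
    rw [map_mul, map_mul, map_inv]
  obtain ⟨v, hv⟩ := factor_of_points (j ≫ f) i fun w => by
    obtain ⟨z, hz⟩ := himg.le (show (w ≫ j) ≫ f ∈ _ from ⟨w ≫ j, hjr.le ⟨w, rfl⟩, rfl⟩)
    exact mem_range_of_factor (z := z) (hz.trans (Category.assoc _ _ _))
  have hpts : ∀ z : Pt T, ∃ w : Pt S, w ≫ v = z := fun z => by
    obtain ⟨a, ha, he⟩ := himg.ge (show z ≫ i ∈ (ptHom i).range from ⟨z, rfl⟩)
    obtain ⟨w, rfl⟩ := hjr.ge ha
    exact ⟨w, (cancel_mono i).1 (by rw [Category.assoc, hv, ← Category.assoc]; exact he)⟩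
  have := FixedPt.qc_G S
  have := FixedPt.qc_G T
  have : IsMonHom v :=
    { one_hom := by rw [← cancel_mono i, Category.assoc, hv, IsMonHom.one_hom (j ≫ f), IsMonHom.one_hom i]
      mul_hom := by
        rw [← cancel_mono i, Category.assoc, hv, IsMonHom.mul_hom (j ≫ f), Category.assoc, IsMonHom.mul_hom i,
          MonoidalCategory.tensorHom_comp_tensorHom_assoc, hv] }
  have : QuasiCompact (v.left ≫ T.hom) := by rw [Over.w v]; infer_instance
  have : QuasiCompact v.left := QuasiCompact.of_comp _ T.hom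
  have : JacobsonSpace T.left := LocallyOfFiniteType.jacobsonSpace T.hom
  have : Surjective v.left := ⟨fun z => by
    have h : closedPoints T.left ⊆ Set.range v.left := by
      intro p hp
      obtain ⟨w, rfl⟩ := exists_pt hp
      obtain ⟨u, rfl⟩ := hpts w
      exact ⟨pt u, rfl⟩
    have hz : z ∈ closure (closedPoints T.left) := by rw [closure_closedPoints]; trivial
    exact closure_minimal h (GrpScheme.ClosedImage.isClosed_range v) hz⟩
  -- the centraliser of the torus is the torus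
  have : IsAffineHom G.hom := isAffineHom_of_isAffine _
  obtain ⟨Z, _, c, hc, hcc, hcs⟩ := S5247.result S G (DiagRig.multTypeFT_of_torus hS.2.2.1) ‹_› ‹_› j
  have := hc.1
  have := hc.2.1
  have := hcc
  have := hcs
  have := GrpScheme.HomFlat.isReduced_of_smooth Z.hom
  have hZr := Centralizer.range_eq_centralizer j hS.2.2.1 c hc
  rw [hjr] at hZr
  have hself := centralizer_eq_self hG j hS
  rw [hjr] at hself
  obtain ⟨l, hl⟩ := factor_of_points c j fun w => by
    obtain ⟨z, hz⟩ := hjr.ge (hself.le (hZr.le (show w ≫ c ∈ _ from ⟨w, rfl⟩)))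
    exact mem_range_of_factor hz
  refine ⟨S, inferInstance, j, v, hS, isPullback f j i v hv fun X x hx => ?_⟩
  obtain ⟨z, hz⟩ := (hc.2.2 X x).2 fun X' y h => hcen X x hx X' y (h ≫ j)
  exact ⟨z ≫ l, by rw [Category.assoc, hl, hz]⟩

end Closed

end Groth.Agent.Borel50.Luna.Isog
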