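import Groth.Agent.Borel50.Luna.Isog

/-!
# Preimages and images of maximal tori under central isogenies over a field
-/

set_option autoImplicit false
universe u

open CategoryTheory MonoidalCategory CartesianMonoidalCategory MonObj GrpObj AlgebraicGeometry Limits

noncomputable section

namespace Groth.Agent.Borel50.Luna.Isog2

open Groth.Agent.Borel50.Pts Groth.Agent.Borel50.Lin Groth.Agent.Borel50.Density Groth.Agent.Borel50.GeomTorus
open Groth.Agent.DiagRig (bcTr bcTr_mul bcTr_map bcTr_injective bcTr_comp)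

attribute [local instance] ptTop

variable {k : Type u} [Field k]

/-- A group which is a torus over the algebraic closure is a torus. -/
lemma isTorus_of_bc {T : Over (Spec (CommRingCat.of k))} [GrpObj T] (h : Red.IsTorus (Red.bc (gp k) T)) :
    Red.IsTorus T := by
  obtain ⟨S', f, hf, hs, hcov, hloc⟩ := h
  have := Borel50.BaseChange.flat_g (gp k)
  have := Borel50.BaseChange.surjective_g (gp k)
  refine ⟨S', f ≫ gp k, inferInstance, inferInstance, fun V hV => ?_, fun s' => ?_⟩
  · rcases (V : Set ↥(Spec (CommRingCat.of k))).eq_empty_or_nonempty with he | ⟨x, hx⟩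
    · exact ⟨⊥, by simp, by simp [he]⟩
    · obtain ⟨W, hW, hWe⟩ := hcov ⊤ (isAffineOpen_top _)
      refine ⟨W, hW, ?_⟩
      have hV' : (V : Set ↥(Spec (CommRingCat.of k))) = Set.univ :=
        Set.eq_univ_of_forall fun y => Subsingleton.elim (α := PrimeSpectrum k) x y ▸ hx
      rw [Scheme.Hom.comp_base, TopCat.coe_comp, Set.image_comp, hWe, hV', TopologicalSpace.Opens.coe_top,
        Set.image_univ]
      exact Set.range_eq_univ.2 (gp k).surjective
  · obtain ⟨U, hU, r, ⟨E⟩⟩ := hloc s'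
    obtain ⟨i⟩ := Borel50.Lin.TorusSch.bc_comp (U.ι ≫ f) (gp k) _ (Category.assoc _ _ _).symm T
    exact ⟨U, hU, r, ⟨i.symm ≪≫ E⟩⟩

section Transfer

variable {K : Type u} [Field K] {G S T : Over (Spec (CommRingCat.of K))} [GrpObj G] [GrpObj S] [GrpObj T]

/-- Maximal tori transfer along isomorphisms of the source. -/
lemma isMaxTorus_of_iso (i : T ⟶ G) [IsMonHom i] [Mono i] (j : S ⟶ G) (hj : AGF.IsMaxTorus j) (e : S ≅ T)
    (he : e.hom ≫ i = j) : AGF.IsMaxTorus i := by
  have := hj.1
  have : IsMonHom (e.hom ≫ i) := he ▸ hj.1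
  have : IsMonHom e.hom :=
    { one_hom := by rw [← cancel_mono i, Category.assoc, IsMonHom.one_hom (e.hom ≫ i), IsMonHom.one_hom i]
      mul_hom := by
        rw [← cancel_mono i, Category.assoc, IsMonHom.mul_hom (e.hom ≫ i), Category.assoc, IsMonHom.mul_hom i,
          MonoidalCategory.tensorHom_comp_tensorHom_assoc] }
  refine ⟨‹_›, ‹_›, TorusSch.isTorus_of_iso e hj.2.2.1, fun T' _ j' _ _ f hT' hf => ?_⟩
  have : IsIso (e.hom ≫ f) := hj.2.2.2 T' j' (e.hom ≫ f) hT' (by rw [Category.assoc, hf, he])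
  exact IsIso.of_isIso_comp_left e.hom f

end Transfer

variable {G H : Over (Spec (CommRingCat.of k))} [GrpObj G] [GrpObj H]

/-- Centrality of the kernel passes to the base change. -/
lemma central_bc (f : G ⟶ H) [IsMonHom f]
    (hcen : ∀ (X : Over (Spec (CommRingCat.of k))) (x : X ⟶ G), x ≫ f = 1 →
      ∀ (X' : Over (Spec (CommRingCat.of k))) (y : X' ⟶ X) (h : X' ⟶ G), (y ≫ x) * h = h * (y ≫ x))
    {X : Over (Spec (CommRingCat.of (AlgebraicClosure ((Spec (CommRingCat.of k)).residueField (cp k)))))}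
    (x : X ⟶ Red.bc (gp k) G) (hx : x ≫ (Over.pullback (gp k)).map f = 1)
    (X' : Over (Spec (CommRingCat.of (AlgebraicClosure ((Spec (CommRingCat.of k)).residueField (cp k))))))
    (y : X' ⟶ X) (h : X' ⟶ Red.bc (gp k) G) : (y ≫ x) * h = h * (y ≫ x) := by
  have h1 : bcTr (gp k) (1 : X ⟶ Red.bc (gp k) H) = 1 := by
    have := bcTr_mul (gp k) (1 : X ⟶ Red.bc (gp k) H) 1
    rw [_root_.one_mul] at this
    exact left_eq_mul.1 this
  have h2 : bcTr (gp k) x ≫ f = 1 := by rw [← bcTr_map, hx, h1]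
  refine bcTr_injective (gp k) ?_
  rw [bcTr_mul, bcTr_mul, bcTr_comp]
  exact hcen _ _ h2 _ ((Over.map (gp k)).map y) _

/-- The preimage of a maximal torus under a central isogeny is a maximal torus. -/
theorem preimage (hG : Red.IsReductive G) (hH : Red.IsReductive H) (f : G ⟶ H) [IsMonHom f] [Surjective f.left]
    (hcen : ∀ (X : Over (Spec (CommRingCat.of k))) (x : X ⟶ G), x ≫ f = 1 →
      ∀ (X' : Over (Spec (CommRingCat.of k))) (y : X' ⟶ X) (h : X' ⟶ G), (y ≫ x) * h = h * (y ≫ x))
    {T T' : Over (Spec (CommRingCat.of k))} [GrpObj T] [GrpObj T'] (i : T ⟶ H) (hT : Red.IsMaximalTorus i)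
    (i' : T' ⟶ G) [IsMonHom i'] (p : T' ⟶ T) (hsq : IsPullback i' p f i) : Red.IsMaximalTorus i' := by
  obtain ⟨_, _, _, hredG⟩ := Apps.facts hG
  obtain ⟨_, _, _, hredH⟩ := Apps.facts hH
  have := hT.1
  have := hT.2.1
  have := DiagRig.isMonHom_bcMap (gp k) f
  have := DiagRig.isMonHom_bcMap (gp k) i
  have := DiagRig.isMonHom_bcMap (gp k) i'
  have : Mono i' := MorphismProperty.of_isPullback (P := MorphismProperty.monomorphisms _) hsq.flip ‹Mono i›
  have : Surjective ((Over.pullback (gp k)).map f).left :=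
    LimGrp.property_map @Surjective (gp k) f ‹_›
  obtain ⟨S, _, j, v, hj, hpb⟩ := Isog.exists_preimage hredG hredH ((Over.pullback (gp k)).map f)
    (fun X x hx => central_bc f hcen x hx) ((Over.pullback (gp k)).map i) (isMaxTorus_bc i hT)
  have hsq' := hsq.map (Over.pullback (gp k))
  let e : S ≅ Red.bc (gp k) T' := hpb.isoIsPullback _ _ hsq'
  have hM := isMaxTorus_of_iso ((Over.pullback (gp k)).map i') j hj e (hpb.isoIsPullback_hom_fst _ _ hsq')
  refine ⟨‹_›, ‹_›, isTorus_of_bc hM.2.2.1, fun s => ?_⟩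
  obtain rfl : s = cp k := Subsingleton.elim (α := PrimeSpectrum k) _ _
  exact hM.2.2.2

/-- The image of a maximal torus under a central isogeny is a maximal torus with this preimage. -/
theorem image (hG : Red.IsReductive G) (hH : Red.IsReductive H) (f : G ⟶ H) [IsMonHom f] [Surjective f.left]
    (hcen : ∀ (X : Over (Spec (CommRingCat.of k))) (x : X ⟶ G), x ≫ f = 1 →
      ∀ (X' : Over (Spec (CommRingCat.of k))) (y : X' ⟶ X) (h : X' ⟶ G), (y ≫ x) * h = h * (y ≫ x))
    {S : Over (Spec (CommRingCat.of k))} [GrpObj S] (j : S ⟶ G) (hS : Red.IsMaximalTorus j) :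
    ∃ (T : Over (Spec (CommRingCat.of k))) (_ : GrpObj T) (i : T ⟶ H) (p : S ⟶ T),
      Red.IsMaximalTorus i ∧ IsPullback j p f i := by
  obtain ⟨_, _, _, hredG⟩ := Apps.facts hG
  obtain ⟨_, _, _, hredH⟩ := Apps.facts hH
  have := hS.1
  have := hS.2.1
  have hSc := Apps.isCentralizerOf_self hG j hS.2.2.1 hS
  have : IsAffineHom H.hom := isAffineHom_of_isAffine _
  obtain ⟨C, _, c, hc, hcc, hcs⟩ := S5247.result S H (DiagRig.multTypeFT_of_torus hS.2.2.1) ‹_› ‹_› (j ≫ f)
  have := hc.1
  have := hc.2.1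
  have := hcc
  have := hcs
  obtain ⟨p, hp⟩ := (hc.2.2 S (j ≫ f)).2 fun X x h => by
    have := (hSc.2.2 X (x ≫ j)).1 ⟨x, rfl⟩ X (𝟙 X) h
    rw [Category.id_comp] at this
    rw [← Category.assoc, ← Category.assoc, ← MonObj.mul_comp (x ≫ j) (h ≫ j) f, this, MonObj.mul_comp]
  -- over the algebraic closure
  obtain ⟨_, _, _⟩ := OverField.facts_bc (gp k) G
  obtain ⟨_, _, _⟩ := OverField.facts_bc (gp k) H
  have := FixedPt.qc_G (Red.bc (gp k) G)
  have := FixedPt.qc_G (Red.bc (gp k) H)
  have := GrpScheme.HomFlat.isReduced_of_smooth (Red.bc (gp k) G).hom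
  have := GrpScheme.HomFlat.isReduced_of_smooth (Red.bc (gp k) H).hom
  have := DiagRig.isMonHom_bcMap (gp k) f
  have := DiagRig.isMonHom_bcMap (gp k) j
  have := DiagRig.isMonHom_bcMap (gp k) c
  have := DiagRig.isMonHom_bcMap (gp k) (j ≫ f)
  have : Surjective ((Over.pullback (gp k)).map f).left :=
    LimGrp.property_map @Surjective (gp k) f ‹_›
  have : IsClosedImmersion ((Over.pullback (gp k)).map c).left := LimGrp.property_map @IsClosedImmersion (gp k) c hcc
  have : Smooth (Red.bc (gp k) C).hom := inferInstanceAs (Smooth (pullback.snd C.hom (gp k)))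
  obtain ⟨N, ⟨Φ⟩⟩ := exists_rep (G := Red.bc (gp k) G)
  obtain ⟨M, ⟨Ψ⟩⟩ := exists_rep (G := Red.bc (gp k) H)
  obtain ⟨h1, h2⟩ := Torus.maximal_range Φ (isMaxTorus_bc j hS)
  obtain ⟨h3, h4⟩ := Isog.maximal_image ((Over.pullback (gp k)).map f) Φ Ψ h1 h2
  obtain ⟨L, _, iL, _, hL, hLr⟩ := Apps2.exists_maxTorus Ψ h3 h4
  have := hL.2.1
  have hTS := AbSch51.TorusToProper.isTorus_bc (gp k) hS.2.2.1
  obtain ⟨_, _, _, _, -, -⟩ := TorusSch.torus_facts hTS
  obtain ⟨_, _, _, _, hLcomm, -⟩ := TorusSch.torus_facts hL.2.2.1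
  have := GrpScheme.HomFlat.isReduced_of_smooth L.hom
  have := GrpScheme.HomFlat.isReduced_of_smooth (Red.bc (gp k) C).hom
  have : IsClosedImmersion iL.left := Torus.isClosedImmersion_of_torus iL hL.2.2.1
  have hCr := Centralizer.range_eq_centralizer ((Over.pullback (gp k)).map (j ≫ f)) hTS
    ((Over.pullback (gp k)).map c) (OverField.isCentralizerOf_bc (gp k) (j ≫ f) c hc)
  have e : (ptHom ((Over.pullback (gp k)).map (j ≫ f))).range = (ptHom iL).range := by
    rw [hLr, MonoidHom.map_range]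
    congr 1
    ext w : 1
    show w ≫ (Over.pullback (gp k)).map (j ≫ f) = (w ≫ (Over.pullback (gp k)).map j) ≫ (Over.pullback (gp k)).map f
    rw [Functor.map_comp, Category.assoc]
  rw [e, centralizer_eq_self hredH iL hL] at hCr
  obtain ⟨a, ha⟩ := factor_of_points iL ((Over.pullback (gp k)).map c) fun w => by
    obtain ⟨z, hz⟩ := hCr.ge (show w ≫ iL ∈ _ from ⟨w, rfl⟩)
    exact mem_range_of_factor hz
  obtain ⟨b, hb⟩ := factor_of_points ((Over.pullback (gp k)).map c) iL fun w => by
    obtain ⟨z, hz⟩ := hCr.le (show w ≫ (Over.pullback (gp k)).map c ∈ _ from ⟨w, rfl⟩)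
    exact mem_range_of_factor hz
  let el : L ≅ Red.bc (gp k) C := ⟨a, b, by rw [← cancel_mono iL, Category.assoc, hb, ha, Category.id_comp],
    by rw [← cancel_mono ((Over.pullback (gp k)).map c), Category.assoc, ha, hb, Category.id_comp]⟩
  have hCT := isMaxTorus_of_iso ((Over.pullback (gp k)).map c) iL hL el ha
  have hmax : Red.IsMaximalTorus c := by
    refine ⟨‹_›, ‹_›, isTorus_of_bc hCT.2.2.1, fun s => ?_⟩
    obtain rfl : s = cp k := Subsingleton.elim (α := PrimeSpectrum k) _ _
    exact hCT.2.2.2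
  have hpts : ∀ w : Pt (Red.bc (gp k) C), ∃ z : Pt (Red.bc (gp k) S), z ≫ (Over.pullback (gp k)).map p = w := by
    intro w
    obtain ⟨z, hz⟩ := e.ge (hCr.le (show w ≫ (Over.pullback (gp k)).map c ∈ _ from ⟨w, rfl⟩))
    refine ⟨z, (cancel_mono ((Over.pullback (gp k)).map c)).1 ?_⟩
    rw [Category.assoc, ← Functor.map_comp, hp]
    exact hz
  have : IsMonHom (p ≫ c) := hp ▸ inferInstance
  have : IsMonHom p :=
    { one_hom := by rw [← cancel_mono c, Category.assoc, IsMonHom.one_hom (p ≫ c), IsMonHom.one_hom c]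
      mul_hom := by
        rw [← cancel_mono c, Category.assoc, IsMonHom.mul_hom (p ≫ c), Category.assoc, IsMonHom.mul_hom c,
          MonoidalCategory.tensorHom_comp_tensorHom_assoc] }
  have := DiagRig.isMonHom_bcMap (gp k) p
  have := FixedPt.qc_G (Red.bc (gp k) S)
  have : IsAffine (Red.bc (gp k) C).left := isAffine_of_isAffineHom ((Over.pullback (gp k)).map c).left
  have := FixedPt.qc_G (Red.bc (gp k) C)
  have : LocallyOfFiniteType (Red.bc (gp k) C).hom := inferInstance
  have : JacobsonSpace (Red.bc (gp k) C).left := LocallyOfFiniteType.jacobsonSpace (Red.bc (gp k) C).hom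
  have : QuasiCompact (((Over.pullback (gp k)).map p).left ≫ (Red.bc (gp k) C).hom) := by
    rw [Over.w ((Over.pullback (gp k)).map p)]; infer_instance
  have : QuasiCompact ((Over.pullback (gp k)).map p).left := QuasiCompact.of_comp _ (Red.bc (gp k) C).hom
  have hps : Surjective ((Over.pullback (gp k)).map p).left := ⟨fun z => by
    have h : closedPoints (Red.bc (gp k) C).left ⊆ Set.range ((Over.pullback (gp k)).map p).left := by
      intro q hq
      obtain ⟨w, rfl⟩ := exists_pt hq
      obtain ⟨u, rfl⟩ := hpts w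
      exact ⟨pt u, rfl⟩
    have hz : z ∈ closure (closedPoints (Red.bc (gp k) C).left) := by rw [closure_closedPoints]; trivial
    exact closure_minimal h (GrpScheme.ClosedImage.isClosed_range ((Over.pullback (gp k)).map p)) hz⟩
  have hps' : Surjective p.left := ⟨fun z => by
    have := BaseChange.surjective_g (gp k)
    have : Surjective (pullback.fst C.hom (gp k)) := MorphismProperty.pullback_fst (P := @Surjective) _ _ ‹_›
    obtain ⟨z', rfl⟩ := (pullback.fst C.hom (gp k)).surjective z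
    obtain ⟨w, rfl⟩ := ((Over.pullback (gp k)).map p).left.surjective z'
    refine ⟨pullback.fst S.hom (gp k) w, ?_⟩
    rw [← Scheme.Hom.comp_apply, ← Scheme.Hom.comp_apply]
    congr 2
    simp only [Over.pullback_map_left]
    rw [pullback.lift_fst]⟩
  have := GrpScheme.HomFlat.isReduced_of_smooth C.hom
  obtain ⟨_, -⟩ := OverField.smooth_centralizer j hS.2.2.1 j hSc
  refine ⟨C, inferInstance, c, p, hmax, Isog.isPullback f j c p hp fun X x hx => ?_⟩
  exact (hSc.2.2 X x).2 fun X' y h => hcen X x hx X' y (h ≫ j)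

end Groth.Agent.Borel50.Luna.Isog2
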