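import Groth.Agent.Borel50.Luna.Fix
import Groth.Agent.Borel50.NormalClosure

/-!
# The unipotent radical from the Borel subgroups through a maximal torus
-/

set_option autoImplicit false
universe u

open CategoryTheory MonoidalCategory CartesianMonoidalCategory MonObj GrpObj AlgebraicGeometry Limits
open scoped Matrix

noncomputable section

namespace Groth.Agent.Borel50.Luna

open Groth.Agent.Borel50.Pts Groth.Agent.Borel50.Lin Groth.Agent.Borel50.Density

attribute [local instance] ptTop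

variable {k : Type u} [Field k] [IsAlgClosed k] {G : Over (Spec (CommRingCat.of k))} [GrpObj G] [IsAffine G.left]
  [Smooth G.hom] [ConnectedSpace G.left]

/-- The normal subgroup generated by such a subgroup is unipotent. -/
theorem isNilpotent_normalClosure {N : ℕ} (Φ : Rep k (Pt G) N) (hΦ : IsReg Φ.ρ)
    {T : Over (Spec (CommRingCat.of k))} [GrpObj T] (iT : T ⟶ G) [IsMonHom iT] (hT : AGF.IsMaxTorus iT)
    {S : Subgroup (Pt G)} (hSc : _root_.IsPreconnected (S : Set (Pt G)))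
    (hS : ∀ (B : Over (Spec (CommRingCat.of k))) [GrpObj B] (iB : B ⟶ G) [IsMonHom iB], Red.IsBorelOver k iB →
      (ptHom iT).range ≤ (ptHom iB).range → S ≤ (ptHom iB).range)
    (hSn : ∀ s ∈ S, IsNilpotent (Φ.ρ s - 1)) :
    ∀ x ∈ Subgroup.closure (⋃ g : Pt G, (S.map (MulAut.conj g).toMonoidHom : Set (Pt G))),
      IsNilpotent (Φ.ρ x - 1) := by
  classical
  set M := Subgroup.closure (⋃ g : Pt G, (S.map (MulAut.conj g).toMonoidHom : Set (Pt G)))
  suffices H : ∀ W : Submodule k (Fin N → k), (∀ g, ∀ w ∈ W, Φ.ρ g *ᵥ w ∈ W) →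
      ∀ x ∈ M, ∃ m : ℕ, ∀ w ∈ W, (Φ.ρ x - 1) ^ m *ᵥ w = 0 by
    intro x hx
    obtain ⟨m, hm⟩ := H ⊤ (fun _ _ _ => trivial) x hx
    exact ⟨m, Matrix.toLinAlgEquiv'.injective (LinearMap.ext fun w => by
      rw [map_zero]
      exact hm w trivial)⟩
  intro W
  induction W using (wellFounded_lt (α := Submodule k (Fin N → k))).induction with
  | h W ih =>
    intro hW x hx
    rcases eq_or_ne W ⊥ with rfl | hW0
    · exact ⟨0, fun w hw => by rw [(Submodule.mem_bot k).1 hw, Matrix.mulVec_zero]⟩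
    obtain ⟨W', ⟨hW'lt, hW'⟩, hW'max⟩ := (wellFounded_gt (α := Submodule k (Fin N → k))).has_min
      {U | U < W ∧ ∀ g, ∀ w ∈ U, Φ.ρ g *ᵥ w ∈ U}
      ⟨⊥, bot_lt_iff_ne_bot.2 hW0, fun g w hw => by
        rw [(Submodule.mem_bot k).1 hw, Matrix.mulVec_zero]; exact Submodule.zero_mem _⟩
    -- the subquotient
    let Wb : Submodule k ((Fin N → k) ⧸ W') := W.map W'.mkQ
    let b := Module.finBasis k Wb
    set d := Module.finrank k Wb
    obtain ⟨pr, hpr⟩ := LinearMap.exists_leftInverse_of_injective Wb.subtype Wb.ker_subtype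
    choose lf hlfW hlf using fun i : Fin d => Submodule.mem_map.1 (b i).2
    let Lm : (Fin N → k) →ₗ[k] (Fin d → k) := b.equivFun.toLinearMap ∘ₗ pr ∘ₗ W'.mkQ
    let Jm : (Fin d → k) →ₗ[k] (Fin N → k) := Fintype.linearCombination k lf
    have hJW : ∀ y, Jm y ∈ W := fun y => by
      rw [Fintype.linearCombination_apply]
      exact Submodule.sum_mem _ fun i _ => Submodule.smul_mem _ _ (hlfW i)
    have hpr' : ∀ z : Wb, pr (z : (Fin N → k) ⧸ W') = z := fun z => LinearMap.congr_fun hpr z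
    have hLJ : ∀ y, Lm (Jm y) = y := fun y => by
      have e : W'.mkQ (Jm y) = ((∑ i, y i • b i : Wb) : (Fin N → k) ⧸ W') := by
        simp [Jm, Fintype.linearCombination_apply, ← hlf]
      show b.equivFun (pr (W'.mkQ (Jm y))) = y
      rw [e, hpr', ← b.equivFun_symm_apply, LinearEquiv.apply_symm_apply]
    have hL0 : ∀ w ∈ W', Lm w = 0 := fun w hw => by
      show b.equivFun (pr (W'.mkQ w)) = 0
      rw [show W'.mkQ w = 0 from (Submodule.Quotient.mk_eq_zero _).2 hw, map_zero, map_zero]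
    have hLker : ∀ w ∈ W, Lm w = 0 → w ∈ W' := fun w hw h => by
      have h1 : pr (W'.mkQ w) = 0 := b.equivFun.map_eq_zero_iff.1 h
      have h2 := hpr' ⟨W'.mkQ w, ⟨w, hw, rfl⟩⟩
      rw [h1] at h2
      exact (Submodule.Quotient.mk_eq_zero _).1 (congrArg Subtype.val h2).symm
    let L : Matrix (Fin d) (Fin N) k := LinearMap.toMatrix' Lm
    let J : Matrix (Fin N) (Fin d) k := LinearMap.toMatrix' Jm
    have hL : ∀ w, L *ᵥ w = Lm w := fun w => LinearMap.toMatrix'_mulVec Lm w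
    have hJ : ∀ y, J *ᵥ y = Jm y := fun y => LinearMap.toMatrix'_mulVec Jm y
    have hact : ∀ g, ∀ w ∈ W, (L * Φ.ρ g * J) *ᵥ (L *ᵥ w) = L *ᵥ (Φ.ρ g *ᵥ w) := fun g w hw => by
      simp only [← Matrix.mulVec_mulVec, hL, hJ]
      rw [← sub_eq_zero, ← map_sub, ← Matrix.mulVec_sub]
      refine hL0 _ (hW' g _ (hLker _ (Submodule.sub_mem _ (hJW _) hw) ?_))
      rw [map_sub, hLJ, sub_self]
    have hext : ∀ A A' : Matrix (Fin d) (Fin d) k, (∀ y, A *ᵥ y = A' *ᵥ y) → A = A' := fun A A' h =>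
      Matrix.toLinAlgEquiv'.injective (LinearMap.ext h)
    let π : Pt G →* Matrix (Fin d) (Fin d) k :=
      { toFun := fun g => L * Φ.ρ g * J
        map_one' := hext _ _ fun y => by
          rw [map_one, Matrix.mul_one, ← Matrix.mulVec_mulVec, hL, hJ, hLJ, Matrix.one_mulVec]
        map_mul' := fun g g' => hext _ _ fun y => by
          rw [← Matrix.mulVec_mulVec (M := L * Φ.ρ g * J),
            show (L * Φ.ρ g' * J) *ᵥ y = L *ᵥ (Φ.ρ g' *ᵥ (J *ᵥ y)) by simp [Matrix.mulVec_mulVec, Matrix.mul_assoc],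
            hact g _ (hW g' _ (hJ y ▸ hJW y))]
          simp [Matrix.mulVec_mulVec, map_mul, Matrix.mul_assoc] }
    have hirr : IsIrred π := fun y hy => by
      let O := Submodule.span k (Set.range fun g => Φ.ρ g *ᵥ (J *ᵥ y))
      have hOW : O ≤ W := Submodule.span_le.2 (by rintro _ ⟨g, rfl⟩; exact hW g _ (hJ y ▸ hJW y))
      have hstab : ∀ g, ∀ w ∈ W' ⊔ O, Φ.ρ g *ᵥ w ∈ W' ⊔ O := by
        intro g w hw
        obtain ⟨w₁, hw₁, w₂, hw₂, rfl⟩ := Submodule.mem_sup.1 hw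
        rw [Matrix.mulVec_add]
        refine Submodule.add_mem_sup (hW' g _ hw₁) ?_
        have h1 := Submodule.mem_map_of_mem (f := Matrix.mulVecLin (Φ.ρ g)) hw₂
        rw [Submodule.map_span] at h1
        refine Submodule.span_mono ?_ h1
        rintro _ ⟨_, ⟨g', rfl⟩, rfl⟩
        exact ⟨g * g', by simp [Matrix.mulVec_mulVec, map_mul, Matrix.mul_assoc]⟩
      have htop : W' ⊔ O = W := by
        by_contra hne
        have hlt : W' ⊔ O < W := lt_of_le_of_ne (sup_le hW'lt.le hOW) hne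
        refine hW'max _ ⟨hlt, hstab⟩ (lt_of_le_of_ne le_sup_left fun e => hy ?_)
        have hmem : J *ᵥ y ∈ W' := by
          rw [e]
          exact Submodule.mem_sup_right (Submodule.subset_span ⟨1, by simp⟩)
        have h2 := hL0 _ hmem
        rwa [hJ, hLJ] at h2
      refine eq_top_iff.2 fun z _ => ?_
      have hz : J *ᵥ z ∈ W' ⊔ O := by rw [htop, hJ]; exact hJW z
      obtain ⟨w₁, hw₁, w₂, hw₂, he⟩ := Submodule.mem_sup.1 hz
      have h1 := Submodule.mem_map_of_mem (f := Matrix.mulVecLin L) hw₂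
      rw [Submodule.map_span] at h1
      have e : z = L *ᵥ w₂ := by
        have h2 := congrArg (fun w => L *ᵥ w) he
        simp only [hL, hJ, hLJ, map_add, hL0 _ hw₁, zero_add] at h2
        rw [hL, h2]
      rw [e]
      refine Submodule.span_mono ?_ h1
      rintro _ ⟨_, ⟨g, rfl⟩, rfl⟩
      exact ⟨g, by simp [π, Matrix.mulVec_mulVec, Matrix.mul_assoc]⟩
    have hfix := fixes (hΦ.sandwich (π' := π) fun g => rfl) hirr iT hT hSc hS fun s hs => by
      obtain ⟨m, hm⟩ := hSn s hs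
      refine ⟨m, hext _ _ fun y => ?_⟩
      have hind : ∀ j : ℕ, (π s - 1) ^ j *ᵥ y = L *ᵥ ((Φ.ρ s - 1) ^ j *ᵥ (J *ᵥ y)) ∧
          (Φ.ρ s - 1) ^ j *ᵥ (J *ᵥ y) ∈ W := fun j => by
        induction j with
        | zero => exact ⟨by simp only [pow_zero, Matrix.one_mulVec, hL, hJ, hLJ],
            by rw [pow_zero, Matrix.one_mulVec, hJ]; exact hJW y⟩
        | succ j ih =>
          obtain ⟨ih1, ih2⟩ := ih
          refine ⟨?_, ?_⟩
          · rw [pow_succ', ← Matrix.mulVec_mulVec, ih1, pow_succ' (Φ.ρ s - 1), ← Matrix.mulVec_mulVec,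
              Matrix.sub_mulVec, Matrix.sub_mulVec, Matrix.one_mulVec, Matrix.one_mulVec, Matrix.mulVec_sub]
            show (L * Φ.ρ s * J) *ᵥ _ - _ = _
            rw [hact s _ ih2]
          · rw [pow_succ', ← Matrix.mulVec_mulVec, Matrix.sub_mulVec, Matrix.one_mulVec]
            exact Submodule.sub_mem _ (hW s _ ih2) ih2
      rw [(hind m).1, hm]
      simp
    have hdrop : ∀ y ∈ M, ∀ w ∈ W, Φ.ρ y *ᵥ w - w ∈ W' := fun y hy => by
      induction hy using Subgroup.closure_induction with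
      | mem z hz =>
        obtain ⟨g, s, hs, rfl⟩ := Set.mem_iUnion.1 hz
        intro w hw
        set w₁ := Φ.ρ g⁻¹ *ᵥ w
        have h1 : Φ.ρ s *ᵥ w₁ - w₁ ∈ W' := by
          refine hLker _ (Submodule.sub_mem _ (hW s _ (hW _ _ hw)) (hW _ _ hw)) ?_
          have h2 : (L * Φ.ρ s * J) *ᵥ (L *ᵥ w₁) = L *ᵥ w₁ := by
            rw [show L * Φ.ρ s * J = 1 from hfix s hs, Matrix.one_mulVec]
          rw [hact s _ (hW _ _ hw)] at h2
          rw [map_sub, ← hL, ← hL, h2, sub_self]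
        have h3 := hW' g _ h1
        rw [Matrix.mulVec_sub, show Φ.ρ g *ᵥ w₁ = w by
          rw [Matrix.mulVec_mulVec, ← map_mul, mul_inv_cancel, map_one, Matrix.one_mulVec]] at h3
        show Φ.ρ (g * s * g⁻¹) *ᵥ w - w ∈ W'
        simpa [w₁, Matrix.mulVec_mulVec, map_mul, Matrix.mul_assoc] using h3
      | one => intro w _; simp
      | mul a c _ _ ha hc =>
        intro w hw
        have e : Φ.ρ (a * c) *ᵥ w - w = Φ.ρ a *ᵥ (Φ.ρ c *ᵥ w - w) + (Φ.ρ a *ᵥ w - w) := by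
          rw [Matrix.mulVec_sub, Matrix.mulVec_mulVec, map_mul]; abel
        rw [e]
        exact Submodule.add_mem _ (hW' a _ (hc w hw)) (ha w hw)
      | inv a _ ha =>
        intro w hw
        have e : Φ.ρ a⁻¹ *ᵥ w - w = -(Φ.ρ a⁻¹ *ᵥ (Φ.ρ a *ᵥ w - w)) := by
          rw [Matrix.mulVec_sub, Matrix.mulVec_mulVec, ← map_mul, inv_mul_cancel, map_one, Matrix.one_mulVec]; abel
        rw [e]
        exact Submodule.neg_mem _ (hW' _ _ (ha w hw))
    obtain ⟨m, hm⟩ := ih W' hW'lt hW' x hx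
    refine ⟨m + 1, fun w hw => ?_⟩
    rw [pow_succ, ← Matrix.mulVec_mulVec, Matrix.sub_mulVec, Matrix.one_mulVec]
    exact hm _ (hdrop x hx w hw)

omit [ConnectedSpace G.left] in
/-- The unipotent radical of a Borel subgroup, on rational points. -/
theorem exists_radical {N : ℕ} (Φ : Rep k (Pt G) N) [ConnectedSpace G.left] {B : Over (Spec (CommRingCat.of k))}
    [GrpObj B] (iB : B ⟶ G) [IsMonHom iB] (hB : Red.IsBorelOver k iB) :
    ∃ (V : Over (Spec (CommRingCat.of k))) (_ : GrpObj V) (v : V ⟶ B), Par.IsUnipotentRadical v ∧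
      ∀ w : Pt V, IsNilpotent (Φ.ρ (w ≫ v ≫ iB) - 1) := by
  classical
  have := FixedPt.qc_G G
  have := hB.2.1
  have := hB.2.2.1
  have : Mono iB := Over.mono_of_mono_left iB
  have : IsAffine B.left := isAffine_of_isAffineHom iB.left
  obtain ⟨hR, hRc, e, hsol⟩ := UnipBorel.pts_borel iB hB
  set BC := (ptHom iB).range with hBC
  obtain ⟨Uall, hUall⟩ := NormalClosure.exists_unipotent_subgroup Φ BC hR hRc hsol
  have hUcl : IsClosed (Uall : Set (Pt G)) := by
    have e : (Uall : Set (Pt G)) = (BC : Set (Pt G)) ∩ {x | IsNilpotent (Φ.ρ x - 1)} := Set.ext fun x => hUall x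
    rw [e]
    exact hR.inter Φ.isClosed_isNilpotent
  let V₀ : Subgroup (Pt G) := (Φ.restrict Uall hUcl).identityComponent.map Uall.subtype
  have hV₀U : V₀ ≤ Uall := Subgroup.map_subtype_le _
  have hmax : ∀ R : Subgroup (Pt G), _root_.IsPreconnected (R : Set (Pt G)) → R ≤ Uall → R ≤ V₀ := by
    intro R hR hle x hx
    refine ⟨⟨x, hle hx⟩, ?_, rfl⟩
    have hpre : _root_.IsPreconnected ((Subtype.val : Uall → Pt G) ⁻¹' (R : Set (Pt G))) := by
      refine Topology.IsInducing.subtypeVal.isPreconnected_image.1 ?_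
      convert hR using 1
      exact Set.Subset.antisymm (by rintro _ ⟨z, hz, rfl⟩; exact hz) fun z hz => ⟨⟨z, hle hz⟩, hz, rfl⟩
    exact hpre.subset_connectedComponent (x := 1) R.one_mem hx
  have hV₀c : _root_.IsPreconnected (V₀ : Set (Pt G)) := Rep.isPreconnected_map_subtype isPreconnected_connectedComponent
  obtain ⟨V, _, iV, _, _, _, _, hmem, hconn⟩ := exists_sub V₀
    (Rep.isClosed_map_subtype hUcl (Rep.isClosed_identityComponent _))
  have := hconn hV₀c
  have : IsAffine V.left := isAffine_of_isAffineHom iV.left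
  have := GrpScheme.HomFlat.isReduced_of_smooth V.hom
  obtain ⟨v, hv⟩ := factor_of_points iV iB fun w => by
    obtain ⟨z, hz⟩ := ((hUall _).1 (hV₀U ((hmem _).2 ⟨w, rfl⟩))).1
    exact mem_range_of_factor hz
  have : IsMonHom v :=
    { one_hom := by rw [← cancel_mono iB, Category.assoc, hv, IsMonHom.one_hom iB, IsMonHom.one_hom iV]
      mul_hom := by
        rw [← cancel_mono iB, Category.assoc, hv, IsMonHom.mul_hom iV, Category.assoc, IsMonHom.mul_hom iB,
          tensorHom_comp_tensorHom_assoc, hv] }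
  have : IsClosedImmersion v.left := by
    have h : IsClosedImmersion (v.left ≫ iB.left) := by rw [← Over.comp_left, hv]; infer_instance
    exact IsClosedImmersion.of_comp v.left iB.left
  have hnil : ∀ w : Pt V, IsNilpotent (Φ.ρ (w ≫ v ≫ iB) - 1) := fun w => by
    rw [hv]
    exact ((hUall _).1 (hV₀U ((hmem _).2 ⟨w, rfl⟩))).2
  have : Mono iV := Over.mono_of_mono_left iV
  have hno : Red.HasNoSubtorus k V := RadicalScheme.hasNoSubtorus_of_isNilpotent Φ iV fun w => hv ▸ hnil w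
  refine ⟨V, inferInstance, v, ⟨‹_›, ‹_›, ?_, ‹_›, FixedPt.qc_G V, UnipRadical.geom_of_noSubtorus hno, ?_⟩, hnil⟩
  · refine NormalClosure.isNormalHom_of_points v fun b x hx => ?_
    obtain ⟨w, rfl⟩ := hx
    let g : Pt G := b ≫ iB
    have hle : V₀.map (MulAut.conj g).toMonoidHom ≤ V₀ := by
      refine hmax _ (hV₀c.image _ ((Φ.continuous_mul_right g⁻¹).comp (Φ.good.left g)).continuousOn) ?_
      rintro _ ⟨y, hy, rfl⟩
      obtain ⟨hyB, hyn⟩ := (hUall y).1 (hV₀U hy)
      exact (hUall _).2 ⟨BC.mul_mem (BC.mul_mem ⟨b, rfl⟩ hyB) (BC.inv_mem ⟨b, rfl⟩), Φ.isNilpotent_conj hyn g⟩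
    obtain ⟨w', hw'⟩ := (hmem _).1 (hle ⟨w ≫ iV, (hmem _).2 ⟨w, rfl⟩, rfl⟩)
    refine ⟨w', (cancel_mono iB).1 ?_⟩
    show (w' ≫ v) ≫ iB = (b * (w ≫ v) * b⁻¹) ≫ iB
    rw [Category.assoc, hv, MonObj.mul_comp, MonObj.mul_comp, GrpObj.inv_comp, Category.assoc, hv]
    exact hw'
  · intro U' _ u' _ hcl hN hsm hqc hgeo
    obtain ⟨s⟩ : Nonempty ↥(Spec (CommRingCat.of k)) := inferInstanceAs (Nonempty (PrimeSpectrum k))
    have := UnipBorel.connected_of_geom s U' (hgeo s).1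
    have hU' : Red.HasNoSubtorus k U' := UnipRadical.hasNoSubtorus_of_bc _ (hgeo s).2
    have := hcl
    have := hsm
    have : IsClosedImmersion (u' ≫ iB).left := by rw [Over.comp_left]; infer_instance
    have : IsAffine U'.left := isAffine_of_isAffineHom (u' ≫ iB).left
    have := GrpScheme.HomFlat.isReduced_of_smooth U'.hom
    have hle' : (ptHom (u' ≫ iB)).range ≤ V₀ := hmax _ (Density.isPreconnected_range _) (by
      rintro _ ⟨w, rfl⟩
      exact (hUall _).2 ⟨⟨w ≫ u', show (w ≫ u') ≫ iB = w ≫ u' ≫ iB from Category.assoc _ _ _⟩,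
        (UnipRadical.pts_facts (u' ≫ iB) hU').2 Φ _ ⟨w, rfl⟩⟩)
    obtain ⟨f, hf⟩ := factor_of_points (u' ≫ iB) iV fun w => by
      obtain ⟨z, hz⟩ := (hmem _).1 (hle' ⟨w, rfl⟩)
      exact mem_range_of_factor hz
    exact ⟨f, (cancel_mono iB).1 (by rw [Category.assoc, hv, hf])⟩

/-- Points of such a subgroup lie in the unipotent radical. -/
theorem le_radical_pts {N : ℕ} (Φ : Rep k (Pt G) N) (hΦ : IsReg Φ.ρ)
    {U : Over (Spec (CommRingCat.of k))} [GrpObj U] (u : U ⟶ G) (hU : Par.IsUnipotentRadical u) [IsMonHom u]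
    {T : Over (Spec (CommRingCat.of k))} [GrpObj T] (iT : T ⟶ G) [IsMonHom iT] (hT : AGF.IsMaxTorus iT)
    {S : Subgroup (Pt G)} (hSc : _root_.IsPreconnected (S : Set (Pt G)))
    (hS : ∀ (B : Over (Spec (CommRingCat.of k))) [GrpObj B] (iB : B ⟶ G) [IsMonHom iB], Red.IsBorelOver k iB →
      (ptHom iT).range ≤ (ptHom iB).range → S ≤ (ptHom iB).range)
    (hSn : ∀ s ∈ S, IsNilpotent (Φ.ρ s - 1)) : S ≤ (ptHom u).range := by
  classical
  have := FixedPt.qc_G G
  have hnil := isNilpotent_normalClosure Φ hΦ iT hT hSc hS hSn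
  let X : Set (Pt G) := ⋃ g : Pt G, (S.map (MulAut.conj g).toMonoidHom : Set (Pt G))
  obtain ⟨W, hW⟩ := Φ.exists_closure_subgroup (Subgroup.closure X)
  obtain ⟨K, _, iK, _, _, _, _, hmem, hconn⟩ := exists_sub W (hW ▸ isClosed_closure)
  have : ConnectedSpace K.left := hconn (by
    rw [hW]
    have h1 : (1 : Pt G) ∈ X := Set.mem_iUnion.2 ⟨1, Subgroup.one_mem _⟩
    refine (LieKolchin.preconnected_closure Φ.good X ?_ h1).closure
    exact isPreconnected_iUnion ⟨1, Set.mem_iInter.2 fun g => Subgroup.one_mem _⟩ fun g =>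
      hSc.image _ ((Φ.continuous_mul_right g⁻¹).comp (Φ.good.left g)).continuousOn)
  have : IsAffine K.left := isAffine_of_isAffineHom iK.left
  have : Mono iK := Over.mono_of_mono_left iK
  have hno : Red.HasNoSubtorus k K := RadicalScheme.hasNoSubtorus_of_isNilpotent Φ iK fun w => by
    have h : w ≫ iK ∈ (W : Set (Pt G)) := (hmem _).2 ⟨w, rfl⟩
    rw [hW] at h
    exact closure_minimal (fun y hy => hnil y hy) Φ.isClosed_isNilpotent h
  have hN : AlgGrp.IsNormalHom iK := by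
    refine NormalClosure.isNormalHom_of_points iK fun g x hx => ?_
    obtain ⟨w, rfl⟩ := hx
    refine (hmem _).1 ?_
    have h : w ≫ iK ∈ (W : Set (Pt G)) := (hmem _).2 ⟨w, rfl⟩
    rw [hW] at h
    rw [← SetLike.mem_coe, hW]
    have hc : Continuous fun y : Pt G => g * y * g⁻¹ := (Φ.continuous_mul_right g⁻¹).comp (Φ.good.left g)
    have hle : (Subgroup.closure X).map (MulAut.conj g).toMonoidHom ≤ Subgroup.closure X := by
      rw [MonoidHom.map_closure, Subgroup.closure_le]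
      rintro _ ⟨z, hz, rfl⟩
      obtain ⟨g', s, hs, rfl⟩ := Set.mem_iUnion.1 hz
      exact Subgroup.subset_closure (Set.mem_iUnion.2 ⟨g * g', s, hs, by simp [_root_.mul_assoc]⟩)
    exact map_mem_closure (f := fun y : Pt G => g * y * g⁻¹) hc h fun y hy => hle ⟨y, hy, rfl⟩
  obtain ⟨f, hf⟩ := hU.2.2.2.2.2.2 K iK ‹_› hN ‹_› ‹_› (UnipRadical.geom_of_noSubtorus hno)
  intro x hx
  obtain ⟨w, hw⟩ := (hmem x).1 (by
    rw [← SetLike.mem_coe, hW]
    exact subset_closure (Subgroup.subset_closure (Set.mem_iUnion.2 ⟨1, x, hx, by simp⟩)))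
  exact ⟨w ≫ f, show (w ≫ f) ≫ u = x by rw [Category.assoc, hf, hw]⟩

/-- A connected subgroup in the unipotent radicals of the Borel subgroups through a maximal torus lies in the
unipotent radical. -/
theorem le_radical {U : Over (Spec (CommRingCat.of k))} [GrpObj U] (u : U ⟶ G) (hU : Par.IsUnipotentRadical u)
    {T : Over (Spec (CommRingCat.of k))} [GrpObj T] (iT : T ⟶ G) (hT : AGF.IsMaxTorus iT)
    {H : Over (Spec (CommRingCat.of k))} [GrpObj H] (j : H ⟶ G) [IsMonHom j] [IsClosedImmersion j.left]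
    [Smooth H.hom] [ConnectedSpace H.left]
    (hH : ∀ (B : Over (Spec (CommRingCat.of k))) [GrpObj B] (iB : B ⟶ G) (t : T ⟶ B), Red.IsBorelOver k iB →
      t ≫ iB = iT → ∀ (V : Over (Spec (CommRingCat.of k))) [GrpObj V] (v : V ⟶ B), Par.IsUnipotentRadical v →
      ∃ f : H ⟶ V, f ≫ v ≫ iB = j) :
    ∃ g : H ⟶ U, g ≫ u = j := by
  classical
  have := FixedPt.qc_G G
  have := GrpScheme.HomFlat.isReduced_of_smooth G.hom
  have := GrpScheme.HomFlat.isReduced_of_smooth H.hom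
  have := hT.1
  have := hT.2.1
  obtain ⟨N, Φ, hΦ⟩ := exists_regRep (G := G)
  obtain ⟨htor, -⟩ := Torus.maximal_range Φ hT
  obtain ⟨_, _, _, _, -, -⟩ := TorusSch.torus_facts hT.2.2.1
  have := GrpScheme.HomFlat.isReduced_of_smooth T.hom
  set S := (ptHom j).range with hSdef
  have key : ∀ (B : Over (Spec (CommRingCat.of k))) [GrpObj B] (iB : B ⟶ G) [IsMonHom iB], Red.IsBorelOver k iB →
      (ptHom iT).range ≤ (ptHom iB).range → S ≤ (ptHom iB).range ∧ ∀ s ∈ S, IsNilpotent (Φ.ρ s - 1) := by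
    intro B _ iB _ hB hle
    have := hB.2.1
    obtain ⟨t, ht⟩ := factor_of_points iT iB fun w => by
      obtain ⟨z, hz⟩ := hle ⟨w, rfl⟩
      exact mem_range_of_factor hz
    obtain ⟨V, _, v, hv, hn⟩ := exists_radical Φ iB hB
    obtain ⟨f, hf⟩ := hH B iB t hB ht V v hv
    refine ⟨?_, ?_⟩ <;> rintro _ ⟨w, rfl⟩
    · exact ⟨w ≫ f ≫ v, show (w ≫ f ≫ v) ≫ iB = w ≫ j by rw [← hf]; simp only [Category.assoc]⟩
    · have h := hn (w ≫ f)
      rw [Category.assoc, hf] at h
      exact h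
  obtain ⟨B₀, _, iB₀, hB₀⟩ := Conj.exists_borel G
  have := hB₀.1
  obtain ⟨a, ha⟩ := ToralConj.conj_into_borel iB₀ hB₀ htor
  have hB₁ := Conj.isBorelOver_conjBy iB₀ hB₀ a⁻¹
  have := hB₁.1
  have hSn := (key B₀ (AGF.conjBy a⁻¹ iB₀) hB₁ (by
    rw [ToralConj.range_conjBy]
    intro x hx
    exact ⟨a * x * a⁻¹, ha ⟨x, hx, rfl⟩, by simp [_root_.mul_assoc]⟩)).2
  have hSc : _root_.IsPreconnected (S : Set (Pt G)) := Density.isPreconnected_range j
  have := hU.1
  have hle := le_radical_pts Φ hΦ u hU iT hT hSc (fun B _ iB _ hB hle => (key B iB hB hle).1) hSn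
  obtain ⟨_, hcu, -, -, -, -, -⟩ := hU
  have := hcu
  obtain ⟨l, hl⟩ := factor_of_points j u fun w => by
    obtain ⟨z, hz⟩ := hle (show w ≫ j ∈ S from ⟨w, rfl⟩)
    exact mem_range_of_factor hz
  exact ⟨l, hl⟩

end Groth.Agent.Borel50.Luna
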