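import Groth.Agent.Borel50.Luna.Weights
import Groth.Agent.Borel50.StabPts
import Groth.Agent.Borel50.ProjAct
import Groth.Agent.Borel50.NormalizerScheme
import Groth.Agent.Borel50.StableProd

/-!
# Regular representations of the rational points and closedness of the cone of a Borel-stable line
-/

set_option autoImplicit false
set_option backward.isDefEq.respectTransparency false
universe u

open CategoryTheory MonoidalCategory CartesianMonoidalCategory MonObj GrpObj AlgebraicGeometry Limits WithConv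
open scoped Matrix

noncomputable section

namespace Groth.Agent.Borel50.Luna

open Groth.Agent.Borel50.Pts Groth.Agent.Borel50.Lin Groth.Agent.Borel50.Density
open Groth.Agent.GrpdLib.AffHomogeneous (gam algebraMap_comm)

attribute [local instance] ptTop UnipLib.algOf

variable {k : Type u} [Field k]

/-- The value of a global function at a rational point. -/
def val {X : Over (Spec (CommRingCat.of k))} (x : Pt X) : Γ(X.left, ⊤) →ₐ[k] k :=
  { (Scheme.ΓSpecIso (CommRingCat.of k)).hom.hom.comp x.left.appTop.hom with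
    commutes' := fun r => by
      show (Scheme.ΓSpecIso (CommRingCat.of k)).hom (x.left.appTop (algebraMap k Γ(X.left, ⊤) r)) = r
      rw [algebraMap_comm x r]
      show (Scheme.ΓSpecIso (CommRingCat.of k)).hom ((Scheme.Hom.appTop (𝟙 (Spec (CommRingCat.of k))))
        ((Scheme.ΓSpecIso (CommRingCat.of k)).inv r)) = r
      simp }

lemma algebraMap_val {X : Over (Spec (CommRingCat.of k))} (x : Pt X) (φ : Γ(X.left, ⊤)) :
    algebraMap k Γ((𝟙_ (Over (Spec (CommRingCat.of k)))).left, ⊤) (val x φ) = gam x φ := by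
  show (Scheme.Hom.appTop (𝟙 (Spec (CommRingCat.of k)))) ((Scheme.ΓSpecIso (CommRingCat.of k)).inv
    ((Scheme.ΓSpecIso (CommRingCat.of k)).hom (x.left.appTop φ))) = x.left.appTop φ
  simp

lemma val_gam {X Y : Over (Spec (CommRingCat.of k))} (x : Pt X) (h : X ⟶ Y) (φ : Γ(Y.left, ⊤)) :
    val x (gam h φ) = val (x ≫ h) φ := by
  show (Scheme.ΓSpecIso (CommRingCat.of k)).hom (x.left.appTop (h.left.appTop φ)) =
    (Scheme.ΓSpecIso (CommRingCat.of k)).hom ((x.left ≫ h.left).appTop φ)
  rw [Scheme.Hom.comp_appTop]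
  rfl

lemma pt_mem_basicOpen {X : Over (Spec (CommRingCat.of k))} (x : Pt X) (φ : Γ(X.left, ⊤)) :
    pt x ∈ X.left.basicOpen φ ↔ val x φ ≠ 0 := by
  have h : pt x ∈ X.left.basicOpen φ ↔
      IsLocalRing.closedPoint k ∈ (Spec (CommRingCat.of k)).basicOpen (x.left.appTop φ) := by
    change IsLocalRing.closedPoint k ∈ x.left ⁻¹ᵁ X.left.basicOpen φ ↔ _
    rw [Scheme.preimage_basicOpen_top]
    rfl
  rw [h]
  constructor
  · intro hm h0
    have e : x.left.appTop φ = 0 := by
      have := algebraMap_val x φ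
      rw [h0, map_zero] at this
      exact this.symm
    rw [e, Scheme.basicOpen_zero] at hm
    exact hm
  · intro hne
    have hu : IsUnit (x.left.appTop φ) := by
      have := algebraMap_val x φ
      change algebraMap k _ (val x φ) = x.left.appTop φ at this
      rw [← this]
      exact (isUnit_iff_ne_zero.2 hne).map _
    erw [Scheme.basicOpen_of_isUnit _ hu]
    trivial

variable [IsAlgClosed k]

/-- Functions on a reduced scheme of finite type are determined by their values at rational points. -/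
lemma ext_val {X : Over (Spec (CommRingCat.of k))} [LocallyOfFiniteType X.hom] [IsReduced X.left]
    {φ φ' : Γ(X.left, ⊤)} (h : ∀ x : Pt X, val x φ = val x φ') : φ = φ' := by
  rw [← sub_eq_zero, ← basicOpen_eq_bot_iff]
  have : JacobsonSpace X.left := LocallyOfFiniteType.jacobsonSpace X.hom
  by_contra hne
  obtain ⟨z, hz, hzc⟩ := nonempty_inter_closedPoints
    (Z := ((X.left.basicOpen (φ - φ') : TopologicalSpace.Opens X.left) : Set X.left))
    (Set.nonempty_iff_ne_empty.2 fun h0 => hne (TopologicalSpace.Opens.ext h0))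
    (X.left.basicOpen (φ - φ')).isOpen.isLocallyClosed
  obtain ⟨x, rfl⟩ := exists_pt hzc
  exact (pt_mem_basicOpen x _).1 hz (by rw [map_sub, h, sub_self])

variable {G : Over (Spec (CommRingCat.of k))} [GrpObj G] {n : ℕ}

/-- A representation of the rational points with regular entries. -/
def IsReg (π : Pt G →* Matrix (Fin n) (Fin n) k) : Prop :=
  ∃ a : Fin n → Fin n → Γ(G.left, ⊤), ∀ g i j, π g i j = val g (a i j)

omit [IsAlgClosed k] in
lemma IsReg.isClosed_ev {π : Pt G →* Matrix (Fin n) (Fin n) k} (h : IsReg π)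
    (q : MvPolynomial (Fin n × Fin n) k) : IsClosed {g : Pt G | ev q (π g) = 0} := by
  obtain ⟨a, ha⟩ := h
  let φ : Γ(G.left, ⊤) := MvPolynomial.aeval (fun p : Fin n × Fin n => a p.1 p.2) q
  have e : {g : Pt G | ev q (π g) = 0} = pt ⁻¹' ((G.left.basicOpen φ : Set G.left))ᶜ := by
    ext g
    have hv : val g φ = ev q (π g) := by
      show val g (MvPolynomial.aeval _ q) = MvPolynomial.eval (fun p : Fin n × Fin n => π g p.1 p.2) q
      rw [← AlgHom.comp_apply, MvPolynomial.comp_aeval, MvPolynomial.aeval_eq_eval]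
      congr 1
      exact congrArg MvPolynomial.eval (funext fun p => (ha g p.1 p.2).symm)
    rw [Set.mem_ofPred_eq, Set.mem_preimage, Set.mem_compl_iff, SetLike.mem_coe, pt_mem_basicOpen, hv, not_not]
  rw [e]
  exact (G.left.basicOpen φ).isOpen.isClosed_compl.preimage continuous_induced_dom

omit [IsAlgClosed k] in
lemma IsReg.sandwich {π : Pt G →* Matrix (Fin n) (Fin n) k} (h : IsReg π) {m : ℕ}
    {L : Matrix (Fin m) (Fin n) k} {J : Matrix (Fin n) (Fin m) k} {π' : Pt G →* Matrix (Fin m) (Fin m) k}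
    (hπ : ∀ g, π' g = L * π g * J) : IsReg π' := by
  obtain ⟨a, ha⟩ := h
  refine ⟨fun i j => ∑ q, ∑ p, (L i p * J q j) • a p q, fun g i j => ?_⟩
  rw [hπ, Matrix.mul_apply, map_sum]
  refine Finset.sum_congr rfl fun q _ => ?_
  rw [Matrix.mul_apply, map_sum, Finset.sum_mul]
  refine Finset.sum_congr rfl fun p _ => ?_
  rw [map_smul, ← ha, smul_eq_mul]
  ring

/-- The contragredient. -/
def dual (π : Pt G →* Matrix (Fin n) (Fin n) k) : Pt G →* Matrix (Fin n) (Fin n) k where
  toFun g := (π g⁻¹)ᵀ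
  map_one' := by rw [inv_one, map_one, Matrix.transpose_one]
  map_mul' g h := by rw [_root_.mul_inv_rev, map_mul, Matrix.transpose_mul]

omit [IsAlgClosed k] in
lemma IsReg.dual {π : Pt G →* Matrix (Fin n) (Fin n) k} (h : IsReg π) : IsReg (dual π) := by
  obtain ⟨a, ha⟩ := h
  refine ⟨fun i j => gam (𝟙 G)⁻¹ (a j i), fun g i j => ?_⟩
  rw [val_gam, GrpObj.comp_inv, Category.comp_id, ← ha]
  rfl

omit [IsAlgClosed k] in
lemma dot_dual (π : Pt G →* Matrix (Fin n) (Fin n) k) (g : Pt G) (f x : Fin n → k) :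
    (dual π g *ᵥ f) ⬝ᵥ x = f ⬝ᵥ (π g⁻¹ *ᵥ x) := by
  show ((π g⁻¹)ᵀ *ᵥ f) ⬝ᵥ x = _
  rw [Matrix.mulVec_transpose, Matrix.dotProduct_mulVec]

/-- The cone over the orbit of a line. -/
def Cone (π : Pt G →* Matrix (Fin n) (Fin n) k) (v : Fin n → k) : Set (Fin n → k) :=
  {w | ∃ (g : Pt G) (c : k), w = c • (π g *ᵥ v)}

omit [IsAlgClosed k] in
lemma eval_smul {p : MvPolynomial (Fin n) k} {d : ℕ} (hp : p.IsHomogeneous d) (c : k) (x : Fin n → k) :
    MvPolynomial.eval (c • x) p = c ^ d * MvPolynomial.eval x p := by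
  rw [MvPolynomial.eval_eq', MvPolynomial.eval_eq', Finset.mul_sum]
  refine Finset.sum_congr rfl fun a ha => ?_
  have hd : ∑ i, a i = d := by
    rw [hp.degree_eq_sum_deg_support ha]
    exact (Finset.sum_subset (Finset.subset_univ _) fun i _ hi => Finsupp.notMem_support_iff.1 hi).symm
  simp only [Pi.smul_apply, smul_eq_mul, mul_pow, Finset.prod_mul_distrib, Finset.prod_pow_eq_pow_sum, hd]
  ring

variable [IsAffine G.left] [Smooth G.hom] [ConnectedSpace G.left]

open ProjAct (Pn mk mk_eq_iff comp_mk mk_congr) in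
/-- The cone over the orbit of a line stable under a Borel subgroup is closed. -/
theorem isZCl_cone {π : Pt G →* Matrix (Fin n) (Fin n) k} (hπ : IsReg π) {v : Fin n → k} (hv : v ≠ 0)
    {B : Over (Spec (CommRingCat.of k))} [GrpObj B] (iB : B ⟶ G) [IsMonHom iB] (hB : Red.IsBorelOver k iB)
    (hfix : ∀ b ∈ (ptHom iB).range, ∃ c : k, π b *ᵥ v = c • v) : IsZCl (Cone π v) := by
  classical
  obtain ⟨i₀, hi₀⟩ := Function.ne_iff.1 hv
  obtain ⟨m, rfl⟩ : ∃ m, n = m + 1 := ⟨n - 1, by have := i₀.isLt; omega⟩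
  have := FixedPt.qc_G G
  have := hB.2.1
  have := hB.2.2.1
  have : Mono iB := Over.mono_of_mono_left iB
  have : LocallyOfFiniteType B.hom := by rw [← Over.w iB]; infer_instance
  have : QuasiCompact B.hom := by rw [← Over.w iB]; infer_instance
  have := GrpScheme.HomFlat.isReduced_of_smooth G.hom
  obtain ⟨X, a, o, hl, -, hf, hs, hq⟩ := S3279.result k G B iB
  have hX : AGF.IsQuotient iB X a o := ⟨hl, hf, hs, hq⟩
  have := Conj.isProper_quotient_borel iB hB hX
  have hcov : AGFQuot.Basic.IsCover (a.orbitMap o) := ⟨hs, hf, GrpdLib.GrpOver.lfp_left _⟩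
  have := hs
  let ak : k → Γ((𝟙_ (Over (Spec (CommRingCat.of k)))).left, ⊤) := algebraMap k _
  have hak : Function.Injective ak := fun r r' h => by
    simpa [ak] using congrArg (val (𝟙 (𝟙_ (Over (Spec (CommRingCat.of k)))))) h
  obtain ⟨am, ham⟩ := hπ
  let vv : Fin (m + 1) → Γ(G.left, ⊤) := fun i => ∑ j, v j • am i j
  have hvv : ∀ g i, val g (vv i) = (π g *ᵥ v) i := fun g i => by
    simp only [vv, map_sum, map_smul, smul_eq_mul, ← ham, Matrix.mulVec, dotProduct]
    exact Finset.sum_congr rfl fun j _ => _root_.mul_comm _ _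
  have hspan : Ideal.span (Set.range vv) = ⊤ := by
    refine Ideal.eq_top_of_isUnit_mem _ (x := algebraMap k Γ(G.left, ⊤) (v i₀)) ?_
      ((isUnit_iff_ne_zero.2 hi₀).map _)
    have e : algebraMap k Γ(G.left, ⊤) (v i₀) = ∑ l, gam (𝟙 G)⁻¹ (am i₀ l) * vv l := ext_val fun g => by
      simp only [map_sum, map_mul, AlgHom.commutes, hvv, val_gam, GrpObj.comp_inv, Category.comp_id, ← ham]
      show v i₀ = (π g⁻¹ *ᵥ (π g *ᵥ v)) i₀
      rw [Matrix.mulVec_mulVec, ← map_mul, inv_mul_cancel, map_one, Matrix.one_mulVec]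
    rw [e]
    exact Ideal.sum_mem _ fun l _ => Ideal.mul_mem_left _ _ (Ideal.subset_span ⟨l, rfl⟩)
  let orb : G ⟶ Pn k m := mk G vv hspan
  have hvec : ∀ {x : Fin (m + 1) → k}, x ≠ 0 → Ideal.span (Set.range fun i => ak (x i)) = ⊤ := fun {x} hx => by
    obtain ⟨i, hi⟩ := Function.ne_iff.1 hx
    exact Ideal.eq_top_of_isUnit_mem _ (Ideal.subset_span ⟨i, rfl⟩) ((isUnit_iff_ne_zero.2 hi).map _)
  have hne : ∀ g, π g *ᵥ v ≠ 0 := fun g h0 => hv (by
    have := congrArg (fun x => π g⁻¹ *ᵥ x) h0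
    simp only [Matrix.mulVec_mulVec, ← map_mul, inv_mul_cancel, map_one, Matrix.one_mulVec, Matrix.mulVec_zero] at this
    exact this)
  have horb : ∀ g : Pt G, g ≫ orb = mk _ (fun i => ak ((π g *ᵥ v) i)) (hvec (hne g)) := fun g => by
    rw [comp_mk]
    exact mk_congr (funext fun i => by rw [← hvv]; exact (algebraMap_val g _).symm) _ _
  -- the orbit morphism descends to the quotient
  have : IsSeparated (Pn k m).hom := inferInstance
  have : Smooth (G ⊗ B).hom := inferInstanceAs (Smooth (pullback.fst G.hom B.hom ≫ G.hom))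
  have : IsReduced (G ⊗ B).left := GrpScheme.HomFlat.isReduced_of_smooth (G ⊗ B).hom
  have hinv : (fst G B * (snd G B ≫ iB)) ≫ orb = fst G B ≫ orb := Centralizer.hom_ext _ _ fun w => by
    rw [← Category.assoc, ← Category.assoc, MonObj.comp_mul, ← Category.assoc, horb, horb, mk_eq_iff]
    intro p q
    obtain ⟨c, hc⟩ := hfix ((w ≫ snd G B) ≫ iB) ⟨_, rfl⟩
    have e : π ((w ≫ fst G B) * ((w ≫ snd G B) ≫ iB)) *ᵥ v = c • (π (w ≫ fst G B) *ᵥ v) := by
      rw [map_mul, ← Matrix.mulVec_mulVec, hc, Matrix.mulVec_smul]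
    rw [e]
    simp only [Pi.smul_apply, smul_eq_mul, ak, map_mul]
    ring
  obtain ⟨φ, hφ, -⟩ := AGFQuot.Basic.existsUnique_desc hcov hX.2.2.2 orb fun T a' h => by
    have := congrArg (fun f => lift a' h ≫ f) hinv
    simpa [← Category.assoc, MonObj.comp_mul] using this
  have hclosed : IsClosed (Set.range orb.left) := by
    rw [← hφ, Over.comp_left, Scheme.Hom.comp_base, TopCat.coe_comp, Set.range_comp,
      (a.orbitMap o).left.surjective.range_eq, Set.image_univ]
    have : IsProper (φ.left ≫ (Pn k m).hom) := by rw [Over.w φ]; infer_instance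
    have : IsProper φ.left := IsProper.of_comp φ.left (Pn k m).hom
    exact φ.left.isClosedMap.isClosed_range
  -- compare with polynomials on a chart
  intro w hw
  by_contra hnw
  have hw0 : w ≠ 0 := fun h0 => hnw ⟨1, 0, by rw [h0, zero_smul]⟩
  obtain ⟨i, hi⟩ := Function.ne_iff.1 hw0
  let P := MvPolynomial (Fin (m + 1)) k
  let S : Over (Spec (CommRingCat.of k)) := (Spec (CommRingCat.of P)).asOver (Spec (CommRingCat.of k))
  let sec : P → Γ(S.left, ⊤) := fun f => (Scheme.ΓSpecIso (CommRingCat.of P)).inv f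
  let ev' : (Fin (m + 1) → k) → Pt S := fun x => Over.homMk
    (Spec.map (CommRingCat.ofHom (MvPolynomial.eval x : P →+* k))) (by
      show Spec.map _ ≫ Spec.map _ = 𝟙 _
      rw [← Spec.map_comp, ← Spec.map_id]
      congr 1
      ext r
      simp [P])
  have hev : ∀ x f, val (ev' x) (sec f) = MvPolynomial.eval x f := fun x f => by
    show (Scheme.ΓSpecIso (CommRingCat.of k)).hom ((Spec.map (CommRingCat.ofHom (MvPolynomial.eval x : P →+* k))).appTop
      ((Scheme.ΓSpecIso (CommRingCat.of P)).inv f)) = _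
    have e := congr($(Scheme.ΓSpecIso_inv_naturality (CommRingCat.ofHom (MvPolynomial.eval x : P →+* k))) f)
    simp only [CommRingCat.hom_comp, RingHom.comp_apply, CommRingCat.hom_ofHom] at e
    rw [← e]
    simp
  let co : Fin (m + 1) → P := fun j => if j = i then 1 else MvPolynomial.X j
  have hsec : Ideal.span (Set.range fun j => sec (co j)) = ⊤ :=
    Ideal.eq_top_of_isUnit_mem _ (Ideal.subset_span ⟨i, rfl⟩) (by simp [sec, co])
  let chart : S ⟶ Pn k m := mk S (fun j => sec (co j)) hsec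
  have hchart : ∀ x : Fin (m + 1) → k, x i = 1 →
      (pt (ev' x ≫ chart) ∈ Set.range orb.left ↔ x ∈ Cone π v) := by
    intro x hx
    have hx0 : x ≠ 0 := fun h0 => one_ne_zero (hx.symm.trans (congrFun h0 i))
    have e : ev' x ≫ chart = mk _ (fun j => ak (x j)) (hvec hx0) := by
      rw [comp_mk]
      refine mk_congr (funext fun j => ?_) _ _
      rw [← algebraMap_val, hev]
      congr 1
      rcases eq_or_ne j i with rfl | hj
      · simp [co, hx]
      · simp [co, hj]
    constructor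
    · intro hmem
      obtain ⟨g, hg⟩ := StableProd.exists_lift_range orb _ hmem
      rw [horb, e, mk_eq_iff] at hg
      refine ⟨g, ((π g *ᵥ v) i)⁻¹, funext fun j => ?_⟩
      have h1 : ∀ j, (π g *ᵥ v) i * x j = (π g *ᵥ v) j := fun j => by
        have h2 := hg i j
        simp only [ak, ← map_mul] at h2
        rw [hak h2, hx, _root_.mul_one]
      have h3 : (π g *ᵥ v) i ≠ 0 := fun h0 => hne g (funext fun j => by rw [← h1, h0, zero_mul]; rfl)
      rw [Pi.smul_apply, smul_eq_mul, ← h1 j, inv_mul_cancel_left₀ h3]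
    · rintro ⟨g, c, hgc⟩
      refine ⟨pt g, ?_⟩
      rw [← pt_comp]
      congr 1
      rw [horb, e, mk_eq_iff]
      intro p q
      simp only [ak, ← map_mul, hgc, Pi.smul_apply, smul_eq_mul]
      congr 1
      ring
  obtain ⟨I, hI⟩ := (PrimeSpectrum.isClosed_iff_zeroLocus_ideal _).1 (hclosed.preimage chart.left.continuous)
  have hmem : ∀ x, pt (ev' x ≫ chart) ∈ Set.range orb.left ↔ ∀ f ∈ I, MvPolynomial.eval x f = 0 := fun x => by
    have h1 : pt (ev' x) ∈ chart.left ⁻¹' Set.range orb.left ↔ ∀ f ∈ I, MvPolynomial.eval x f = 0 := by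
      refine (Set.ext_iff.1 hI (pt (ev' x))).trans ?_
      rw [PrimeSpectrum.mem_zeroLocus, Set.subset_def]
      refine forall₂_congr fun f _ => ?_
      show MvPolynomial.eval x f ∈ IsLocalRing.maximalIdeal k ↔ _
      rw [IsLocalRing.maximalIdeal_eq_bot, Ideal.mem_bot]
    exact h1
  let w' : Fin (m + 1) → k := (w i)⁻¹ • w
  have hw'i : w' i = 1 := inv_mul_cancel₀ hi
  have hnw' : ¬ pt (ev' w' ≫ chart) ∈ Set.range orb.left := fun h => by
    obtain ⟨g, c, hgc⟩ := (hchart w' hw'i).1 h
    refine hnw ⟨g, w i * c, ?_⟩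
    rw [mul_smul, ← hgc, smul_smul, mul_inv_cancel₀ hi, one_smul]
  rw [hmem] at hnw'
  push Not at hnw'
  obtain ⟨f, hfI, hfw⟩ := hnw'
  let q : P := MvPolynomial.X i * ∑ d ∈ Finset.range (f.totalDegree + 1),
    MvPolynomial.X i ^ (f.totalDegree - d) * MvPolynomial.homogeneousComponent d f
  have hq : ∀ x : Fin (m + 1) → k, x i ≠ 0 →
      MvPolynomial.eval x q = x i ^ (f.totalDegree + 1) * MvPolynomial.eval ((x i)⁻¹ • x) f := by
    intro x hx
    have hf : MvPolynomial.eval ((x i)⁻¹ • x) f = ∑ d ∈ Finset.range (f.totalDegree + 1),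
        MvPolynomial.eval ((x i)⁻¹ • x) (MvPolynomial.homogeneousComponent d f) := by
      rw [← map_sum, MvPolynomial.sum_homogeneousComponent]
    simp only [q, hf, map_mul, map_sum, map_pow, MvPolynomial.eval_X, Finset.mul_sum]
    refine Finset.sum_congr rfl fun d hd => ?_
    rw [eval_smul (MvPolynomial.homogeneousComponent_isHomogeneous d f), inv_pow, ← _root_.mul_assoc, ← pow_succ',
      ← _root_.mul_assoc]
    congr 1
    rw [eq_mul_inv_iff_mul_eq₀ (pow_ne_zero _ hx), ← pow_add]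
    congr 1
    have := Finset.mem_range.1 hd
    omega
  have hq0 := hw q fun x hx => by
    rcases eq_or_ne (x i) 0 with h | h
    · simp [q, h]
    · rw [hq x h, ((hmem _).1 ((hchart _ (by simp [h])).2 ?_)) f hfI, mul_zero]
      obtain ⟨g, c, hgc⟩ := hx
      exact ⟨g, (x i)⁻¹ * c, by rw [mul_smul, ← hgc]⟩
  rw [hq w hi] at hq0
  exact hfw ((mul_eq_zero.1 hq0).resolve_left (pow_ne_zero _ hi))

omit [ConnectedSpace G.left] in
/-- A faithful representation with regular entries. -/
theorem exists_regRep : ∃ (N : ℕ) (Φ : Rep k (Pt G) N), IsReg Φ.ρ := by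
  have := GrpScheme.HomFlat.isReduced_of_smooth G.hom
  obtain ⟨A, hA, e, he⟩ := AffGrp.Bridge.exists_iso (R := CommRingCat.of k) G
  have : Algebra.FiniteType k A := TorusSch.finiteType_of_model e
  have : IsIso e.hom.left := inferInstanceAs (IsIso ((Over.forget _).map e.hom))
  have : IsReduced (Spec A) := by
    let φ : Spec A ⟶ G.left := e.hom.left
    have : IsIso φ := ‹IsIso e.hom.left›
    exact isReduced_of_isOpenImmersion φ
  have : _root_.IsReduced A := (affine_isReduced_iff A).1 inferInstance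
  let Sk := Spec (CommRingCat.of k)
  let ee : (Spec (CommRingCat.of k)).asOver Sk ≅ 𝟙_ (Over Sk) :=
    Over.isoMk (Iso.refl _) (by
      show 𝟙 _ ≫ 𝟙 _ = Spec.map (CommRingCat.ofHom (algebraMap k k))
      simp)
  let ψ : Pt G ≃* LieKolchin.Pts k A :=
    { toFun := fun g => Spec.mapMulEquiv.symm (ee.hom ≫ g ≫ e.inv)
      invFun := fun w => ee.inv ≫ Spec.mapMulEquiv w ≫ e.hom
      left_inv := fun g => by simp
      right_inv := fun w => by
        show Spec.mapMulEquiv.symm (ee.hom ≫ (ee.inv ≫ Spec.mapMulEquiv w ≫ e.hom) ≫ e.inv) = w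
        simp
      map_mul' := fun g h => by
        rw [← map_mul, ← MonObj.comp_mul, ← MonObj.mul_comp] }
  have hψ : ∀ g : Pt G, Spec.mapMulEquiv (ψ g) = ee.hom ≫ g ≫ e.inv := fun g => MulEquiv.apply_symm_apply _ _
  have hprime : ∀ w : LieKolchin.Pts k A, LieKolchin.toPrime w =
      (Spec.mapMulEquiv w).left.base (IsLocalRing.closedPoint k) := fun w => by
    refine PrimeSpectrum.ext (Ideal.ext fun a => ?_)
    show a ∈ RingHom.ker w.ofConv.toRingHom ↔ w.ofConv.toRingHom a ∈ IsLocalRing.maximalIdeal k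
    rw [RingHom.mem_ker, IsLocalRing.maximalIdeal_eq_bot, Ideal.mem_bot]
  letI := LieKolchin.zariski (k := k) (A := A)
  have hc : Continuous ψ := continuous_induced_rng.2 (by
    rw [show LieKolchin.toPrime ∘ ψ = e.inv.left.base ∘ pt from funext fun g => by
      show LieKolchin.toPrime (ψ g) = _
      rw [hprime, hψ]
      rfl]
    exact e.inv.left.continuous.comp continuous_induced_dom)
  have hc' : Continuous ψ.symm := continuous_induced_rng.2 (by
    rw [show pt ∘ ψ.symm = e.hom.left.base ∘ LieKolchin.toPrime from funext fun w => by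
      show pt (ee.inv ≫ Spec.mapMulEquiv w ≫ e.hom) = e.hom.left.base (LieKolchin.toPrime w)
      rw [hprime]
      rfl]
    exact e.hom.left.continuous.comp continuous_induced_dom)
  obtain ⟨N, d, Φ, c, J, L, -, hρ, -⟩ := Lin.Stab.exists_stab (k := k) (A := A) ⊤ isClosed_univ
  refine ⟨N, Φ.comapEquiv ψ hc hc', fun i j => e.inv.left.appTop ((Scheme.ΓSpecIso A).inv (c i j)), fun g i j => ?_⟩
  show Φ.ρ (ψ g) i j = _
  rw [hρ]
  have h1 : g ≫ e.inv = ee.inv ≫ Spec.mapMulEquiv (ψ g) := by rw [hψ, Iso.inv_hom_id_assoc]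
  have h2 := val_gam g e.inv ((Scheme.ΓSpecIso A).inv (c i j))
  rw [h1] at h2
  refine Eq.trans ?_ h2.symm
  show _ = (Scheme.ΓSpecIso (CommRingCat.of k)).hom
    ((𝟙 _ ≫ Spec.map (CommRingCat.ofHom (ψ g).ofConv.toRingHom)).appTop ((Scheme.ΓSpecIso A).inv (c i j)))
  rw [Category.id_comp]
  have e2 := congr($(Scheme.ΓSpecIso_inv_naturality (CommRingCat.ofHom (ψ g).ofConv.toRingHom)) (c i j))
  simp only [CommRingCat.hom_comp, RingHom.comp_apply, CommRingCat.hom_ofHom] at e2
  erw [← e2]
  simp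

end Groth.Agent.Borel50.Luna
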