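import Groth.Agent.Borel50.Luna.Apps2

/-!
# Unipotent normal subgroups lift along surjective homomorphisms
-/

set_option autoImplicit false
universe u v

open CategoryTheory MonoidalCategory CartesianMonoidalCategory MonObj GrpObj AlgebraicGeometry Limits

noncomputable section

namespace Groth.Agent.Borel50.Luna.Unip

open Groth.Agent.Borel50.Pts Groth.Agent.Borel50.Lin Groth.Agent.Borel50.Density

attribute [local instance] ptTop

variable {k : Type u} [Field k] [IsAlgClosed k]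

/-- A closed subgroup of finite index in a connected group is everything. -/
theorem eq_of_finiteIndex {Γ : Type v} [Group Γ] [TopologicalSpace Γ] {N : ℕ} (Φ : Rep k Γ N) {W S : Subgroup Γ}
    (hW : IsClosed (W : Set Γ)) (hWc : _root_.IsPreconnected (W : Set Γ)) (hSW : S ≤ W) (hS : IsClosed (S : Set Γ))
    [(S.subgroupOf W).FiniteIndex] : S = W := by
  have : PreconnectedSpace W := Subtype.preconnectedSpace hWc
  have h := (Φ.restrict W hW).eq_top_of_finiteIndex (S.subgroupOf W) (hS.preimage continuous_subtype_val)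
  exact le_antisymm hSW (Subgroup.subgroupOf_eq_top.1 h)

/-- The image of a subgroup of finite index has finite index in the image. -/
theorem finiteIndex_map {Γ Δ : Type*} [Group Γ] [Group Δ] (f : Γ →* Δ) {P : Subgroup Γ} {A : Subgroup P}
    [A.FiniteIndex] : (((A.map P.subtype).map f).subgroupOf (P.map f)).FiniteIndex := by
  let φ : P →* (P.map f) := f.subgroupMap P
  have h : Function.Surjective φ := f.subgroupMap_surjective P
  have e : ((A.map P.subtype).map f).subgroupOf (P.map f) = A.map φ := by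
    ext ⟨y, hy⟩
    constructor
    · rintro ⟨_, ⟨a, ha, rfl⟩, hay⟩
      exact ⟨a, ha, Subtype.ext hay⟩
    · rintro ⟨a, ha, hay⟩
      exact ⟨_, ⟨a, ha, rfl⟩, congrArg Subtype.val hay⟩
  rw [e]
  exact ⟨ne_zero_of_dvd_ne_zero Subgroup.FiniteIndex.index_ne_zero (Subgroup.index_map_dvd A h)⟩

variable {G H : Over (Spec (CommRingCat.of k))} [GrpObj G] [GrpObj H] [IsAffine G.left]
  [Smooth G.hom] [ConnectedSpace G.left] [IsAffine H.left] [Smooth H.hom]

/-- A maximal torus of a group lying in a closed subgroup is a maximal torus of it. -/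
theorem restrict_maxTorus {L T : Over (Spec (CommRingCat.of k))} [GrpObj L] [GrpObj T] [Smooth L.hom] (iL : L ⟶ G)
    [IsMonHom iL] [IsClosedImmersion iL.left] (iT : T ⟶ G) (hT : AGF.IsMaxTorus iT)
    (hle : ∀ w : Pt T, w ≫ iT ∈ (ptHom iL).range) :
    ∃ (l : T ⟶ L) (_ : IsMonHom l), AGF.IsMaxTorus l ∧ l ≫ iL = iT := by
  have := hT.1
  have := hT.2.1
  obtain ⟨_, _, _, _, -, -⟩ := TorusSch.torus_facts hT.2.2.1
  have := GrpScheme.HomFlat.isReduced_of_smooth T.hom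
  have : Mono iL := Over.mono_of_mono_left iL
  obtain ⟨l, hl⟩ := factor_of_points iT iL fun w => by
    obtain ⟨z, hz⟩ := hle w
    exact mem_range_of_factor hz
  have : IsMonHom l :=
    { one_hom := by rw [← cancel_mono iL, Category.assoc, hl, IsMonHom.one_hom, IsMonHom.one_hom]
      mul_hom := by
        rw [← cancel_mono iL, Category.assoc, Category.assoc, hl, IsMonHom.mul_hom, IsMonHom.mul_hom,
          MonoidalCategory.tensorHom_comp_tensorHom_assoc, hl] }
  have : Mono (l ≫ iL) := hl ▸ hT.2.1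
  have : Mono l := mono_of_mono l iL
  refine ⟨l, inferInstance, ⟨inferInstance, inferInstance, hT.2.2.1, fun T' _ j _ _ f hT' hf => ?_⟩, hl⟩
  exact hT.2.2.2 T' (j ≫ iL) f hT' (by rw [← Category.assoc, hf, hl])

/-- A connected unipotent normal subgroup lifts along a surjective homomorphism. -/
theorem exists_unip_cover {N M : ℕ} (Φ : Rep k (Pt G) N) (Ψ : Rep k (Pt H) M) (π : G ⟶ H) [IsMonHom π]
    (hsurj : ∀ y : Pt H, ∃ x : Pt G, x ≫ π = y) (W : Subgroup (Pt H)) (hW : IsClosed (W : Set (Pt H)))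
    (hWc : _root_.IsPreconnected (W : Set (Pt H))) (hWn : ∀ g : Pt H, ∀ x ∈ W, g * x * g⁻¹ ∈ W)
    (hWu : ∀ x ∈ W, IsNilpotent (Ψ.ρ x - 1)) :
    ∃ R : Subgroup (Pt G), IsClosed (R : Set (Pt G)) ∧ _root_.IsPreconnected (R : Set (Pt G)) ∧
      (∀ g : Pt G, ∀ x ∈ R, g * x * g⁻¹ ∈ R) ∧ (∀ x ∈ R, IsNilpotent (Φ.ρ x - 1)) ∧ W ≤ R.map (ptHom π) := by
  classical
  have := FixedPt.qc_G G
  have := FixedPt.qc_G H
  have := GrpScheme.HomFlat.isReduced_of_smooth G.hom
  let P₀ : Subgroup (Pt G) := W.comap (ptHom π)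
  have hP₀ : IsClosed (P₀ : Set (Pt G)) := hW.preimage (continuous_comp π)
  let Φ₀ := Φ.restrict P₀ hP₀
  have hfi := Φ₀.finiteIndex_identityComponent
  let N₀ : Subgroup (Pt G) := Φ₀.identityComponent.map P₀.subtype
  have hN₀P : N₀ ≤ P₀ := Subgroup.map_subtype_le _
  have hN₀ : IsClosed (N₀ : Set (Pt G)) := Rep.isClosed_map_subtype hP₀ Φ₀.isClosed_identityComponent
  have hN₀c : _root_.IsPreconnected (N₀ : Set (Pt G)) :=
    Rep.isPreconnected_map_subtype isPreconnected_connectedComponent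
  have hN₀n : ∀ g : Pt G, ∀ x ∈ N₀, g * x * g⁻¹ ∈ N₀ := by
    intro g x hx
    set V := N₀.map (MulAut.conj g).toMonoidHom
    have hVc : _root_.IsPreconnected (V : Set (Pt G)) :=
      hN₀c.image _ ((Φ.continuous_mul_right g⁻¹).comp (Φ.good.left g)).continuousOn
    have hVP : V ≤ P₀ := by
      rintro _ ⟨y, hy, rfl⟩
      show ptHom π (g * y * g⁻¹) ∈ W
      rw [map_mul, map_mul, map_inv]
      exact hWn _ _ (hN₀P hy)
    have hpre : _root_.IsPreconnected ((Subtype.val : P₀ → Pt G) ⁻¹' (V : Set (Pt G))) := by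
      refine Topology.IsInducing.subtypeVal.isPreconnected_image.1 ?_
      convert hVc using 1
      exact Set.Subset.antisymm (by rintro _ ⟨z, hz, rfl⟩; exact hz) fun z hz => ⟨⟨z, hVP hz⟩, hz, rfl⟩
    have hV : g * x * g⁻¹ ∈ V := ⟨x, hx, rfl⟩
    exact ⟨⟨_, hVP hV⟩, hpre.subset_connectedComponent (x := 1) V.one_mem hV, rfl⟩
  obtain ⟨K, _, j, _, _, _, _, hmemK, hconnK⟩ := exists_sub N₀ hN₀
  have := hconnK hN₀c
  have : IsAffine K.left := isAffine_of_isAffineHom j.left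
  have := GrpScheme.HomFlat.isReduced_of_smooth K.hom
  have := FixedPt.qc_G K
  have : Mono j := Over.mono_of_mono_left j
  let f : Pt K →* Pt H := ptHom (j ≫ π)
  have hfW : f.range = W := by
    have h1 : W = P₀.map (ptHom π) := le_antisymm
      (fun y hy => by obtain ⟨x, rfl⟩ := hsurj y; exact ⟨x, hy, rfl⟩) (Subgroup.map_comap_le _ _)
    have h2 : f.range = N₀.map (ptHom π) := by
      ext y
      constructor
      · rintro ⟨w, rfl⟩
        exact ⟨w ≫ j, (hmemK _).2 ⟨w, rfl⟩, show (w ≫ j) ≫ π = w ≫ j ≫ π from Category.assoc _ _ _⟩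
      · rintro ⟨x, hx, rfl⟩
        obtain ⟨w, rfl⟩ := (hmemK x).1 hx
        exact ⟨w, show w ≫ j ≫ π = (w ≫ j) ≫ π from (Category.assoc _ _ _).symm⟩
    have : ((N₀.map (ptHom π)).subgroupOf W).FiniteIndex := h1 ▸ finiteIndex_map (ptHom π)
    rw [h2]
    exact eq_of_finiteIndex Ψ hW hWc (h1 ▸ Subgroup.map_mono hN₀P) (isClosed_map π N₀ hN₀)
  obtain ⟨r, ΦK, hΦK⟩ := exists_regRep (G := K)
  have hbot : ΦK.IsToral ⊥ := ⟨by rw [Subgroup.coe_bot]; exact ΦK.isClosed_singleton 1,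
    by rw [Subgroup.coe_bot]; exact isPreconnected_singleton,
    1, 1, _root_.one_mul 1, fun x hx => by
      rw [Subgroup.mem_bot.1 hx, map_one, _root_.one_mul, _root_.one_mul]; exact Matrix.isDiag_one⟩
  obtain ⟨T', hT', -, hmax⟩ := hbot.exists_maximal
  obtain ⟨T, _, iT, _, hT, hTr⟩ := Apps2.exists_maxTorus ΦK hT' hmax
  -- the torus dies in the unipotent group
  have hker : IsClosed (f.ker : Set (Pt K)) := (Ψ.isClosed_singleton 1).preimage (continuous_comp (j ≫ π))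
  have hTker : ∀ t ∈ T', t ∈ f.ker := fun t ht => by
    refine closure_minimal ?_ hker (hT'.closure_torsion ht)
    rintro x ⟨-, n, hn, hxn⟩
    exact Ψ.eq_one_of_isNilpotent_torsion (hWu _ (hfW ▸ ⟨x, rfl⟩)) hn (by rw [← map_pow, hxn, map_one])
  -- the normal subgroup generated by the torus
  let X : Set (Pt K) := ⋃ g : Pt K, (T'.map (MulAut.conj g).toMonoidHom : Set (Pt K))
  have hX1 : (1 : Pt K) ∈ X := Set.mem_iUnion.2 ⟨1, Subgroup.one_mem _⟩
  obtain ⟨M', hM'⟩ := ΦK.exists_closure_subgroup (Subgroup.closure X)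
  have hXM : X ⊆ M' := fun x hx => by rw [hM']; exact subset_closure (Subgroup.subset_closure hx)
  have hMker : M' ≤ f.ker := fun x hx => by
    rw [← SetLike.mem_coe, hM'] at hx
    refine closure_minimal (show (Subgroup.closure X : Set (Pt K)) ⊆ f.ker from ?_) hker hx
    refine (Subgroup.closure_le f.ker).2 (Set.iUnion_subset fun g => ?_)
    rintro _ ⟨t, ht, rfl⟩
    show f (g * t * g⁻¹) = 1
    rw [map_mul, map_mul, show f t = 1 from hTker t ht, _root_.mul_one, ← map_mul, mul_inv_cancel, map_one]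
  obtain ⟨L, _, iL, _, _, _, _, hmemL, hconnL⟩ := exists_sub M' (hM' ▸ isClosed_closure)
  have := hconnL (by
    rw [hM']
    refine (LieKolchin.preconnected_closure ΦK.good X ?_ hX1).closure
    exact isPreconnected_iUnion ⟨1, Set.mem_iInter.2 fun g => Subgroup.one_mem _⟩ fun g =>
      hT'.preconnected.image _ ((ΦK.continuous_mul_right g⁻¹).comp (ΦK.good.left g)).continuousOn)
  have : IsAffine L.left := isAffine_of_isAffineHom iL.left
  have := FixedPt.qc_G L
  have := GrpScheme.HomFlat.isReduced_of_smooth L.hom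
  obtain ⟨nL, ⟨ΦL⟩⟩ := exists_rep (G := L)
  set C := ΦK.centralizerComp T' with hC
  have hfC : C.map f = W := by
    obtain ⟨S, hS⟩ := hT'.exists_finite_normalizer
    have hle : C.map f ≤ W := hfW ▸ Subgroup.map_le_range f C
    have hcov : ∀ w ∈ W, ∃ s ∈ S, (f s)⁻¹ * w ∈ C.map f := by
      intro w hw
      obtain ⟨x, rfl⟩ := (hfW.symm ▸ hw : w ∈ f.range)
      have hT'' := hT'.map_conj x
      have hmax'' : ∀ S', ΦK.IsToral S' → T'.map (MulAut.conj x).toMonoidHom ≤ S' →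
          S' = T'.map (MulAut.conj x).toMonoidHom := by
        intro S' hS' hle'
        have h := hmax _ (hS'.map_conj x⁻¹) (fun t ht => ⟨_, hle' ⟨t, ht, rfl⟩, by simp [_root_.mul_assoc]⟩)
        refine le_antisymm (fun s hs => ?_) hle'
        exact ⟨x⁻¹ * s * x, h ▸ ⟨s, hs, by simp [_root_.mul_assoc]⟩, by simp [_root_.mul_assoc]⟩
      obtain ⟨T₂, _, i₂, _, hT₂, hT₂r⟩ := Apps2.exists_maxTorus ΦK hT'' hmax''
      obtain ⟨l, _, hl, hlc⟩ := restrict_maxTorus iL iT hT fun w => (hmemL _).1 (hXM (Set.mem_iUnion.2 ⟨1,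
        w ≫ iT, hTr ▸ ⟨w, rfl⟩, by simp⟩))
      obtain ⟨l₂, _, hl₂, hlc₂⟩ := restrict_maxTorus iL i₂ hT₂ fun w => (hmemL _).1 (hXM (Set.mem_iUnion.2 ⟨x,
        (hT₂r ▸ ⟨w, rfl⟩ : w ≫ i₂ ∈ T'.map (MulAut.conj x).toMonoidHom)⟩))
      obtain ⟨h₁, h₁'⟩ := Torus.maximal_range ΦL hl
      obtain ⟨h₂, h₂'⟩ := Torus.maximal_range ΦL hl₂
      obtain ⟨g, hg⟩ := ToralConj.toral_conj h₁ h₁' h₂ h₂'
      have e : T'.map (MulAut.conj (g ≫ iL)).toMonoidHom = T'.map (MulAut.conj x).toMonoidHom := by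
        have e1 : T' = (ptHom l).range.map (ptHom iL) := by
          rw [← hTr, MonoidHom.map_range]
          congr 1
          ext w : 1
          exact (congrArg (w ≫ ·) hlc).symm.trans (Category.assoc _ _ _).symm
        have e2 : T'.map (MulAut.conj x).toMonoidHom = (ptHom l₂).range.map (ptHom iL) := by
          rw [← hT₂r, MonoidHom.map_range]
          congr 1
          ext w : 1
          exact (congrArg (w ≫ ·) hlc₂).symm.trans (Category.assoc _ _ _).symm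
        rw [e2, ← hg, e1, Subgroup.map_map, Subgroup.map_map]
        congr 1
        ext w : 1
        show (g ≫ iL) * (w ≫ iL) * (g ≫ iL)⁻¹ = ptHom iL (g * w * g⁻¹)
        rw [map_mul, map_mul, map_inv]
        rfl
      have hn : ∀ s ∈ T', ((g ≫ iL)⁻¹ * x) * s * ((g ≫ iL)⁻¹ * x)⁻¹ ∈ T' ∧
          ((g ≫ iL)⁻¹ * x)⁻¹ * s * ((g ≫ iL)⁻¹ * x) ∈ T' := by
        intro s hs
        obtain ⟨a, ha, ha'⟩ := (e.ge ⟨s, hs, rfl⟩ : _ ∈ T'.map (MulAut.conj (g ≫ iL)).toMonoidHom)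
        obtain ⟨b, hb, hb'⟩ := (e.le ⟨s, hs, rfl⟩ : _ ∈ T'.map (MulAut.conj x).toMonoidHom)
        simp only [MulEquiv.toMonoidHom_eq_coe, MonoidHom.coe_coe, MulAut.conj_apply] at ha' hb'
        refine ⟨?_, ?_⟩
        · suffices h : (g ≫ iL)⁻¹ * x * s * ((g ≫ iL)⁻¹ * x)⁻¹ = a by rw [h]; exact ha
          calc (g ≫ iL)⁻¹ * x * s * ((g ≫ iL)⁻¹ * x)⁻¹ = (g ≫ iL)⁻¹ * (x * s * x⁻¹) * (g ≫ iL) := by group
            _ = a := by rw [← ha']; group
        · suffices h : ((g ≫ iL)⁻¹ * x)⁻¹ * s * ((g ≫ iL)⁻¹ * x) = b by rw [h]; exact hb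
          calc ((g ≫ iL)⁻¹ * x)⁻¹ * s * ((g ≫ iL)⁻¹ * x) = x⁻¹ * ((g ≫ iL) * s * (g ≫ iL)⁻¹) * x := by group
            _ = b := by rw [← hb']; group
      obtain ⟨s, hs, hsC⟩ := hS _ hn
      refine ⟨s, hs, _, hsC, ?_⟩
      rw [map_mul, map_inv, map_mul, map_inv, show f (g ≫ iL) = 1 from hMker ((hmemL _).2 ⟨g, rfl⟩),
        inv_one, _root_.one_mul]
    have : ((C.map f).subgroupOf W).FiniteIndex := by
      refine @Subgroup.finiteIndex_of_finite_quotient _ _ _ (Finite.of_surjective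
        (fun s : {s // s ∈ S} => (QuotientGroup.mk (⟨f s, hfW ▸ ⟨s.1, rfl⟩⟩ : W) : W ⧸ (C.map f).subgroupOf W)) ?_)
      rintro ⟨w, hw⟩
      obtain ⟨s, hs, h⟩ := hcov w hw
      exact ⟨⟨s, hs⟩, QuotientGroup.eq.2 h⟩
    exact eq_of_finiteIndex Ψ hW hWc hle (isClosed_map (j ≫ π) C (ΦK.isClosed_centralizerComp T'))
  -- split off the unipotent part of the Cartan subgroup
  have hCcl : IsClosed (C : Set (Pt K)) := ΦK.isClosed_centralizerComp T'
  have : PreconnectedSpace C := Subtype.preconnectedSpace (ΦK.isPreconnected_centralizerComp T')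
  obtain ⟨hnil, -⟩ := cartan ΦK hT' hmax
  obtain ⟨d, hd⟩ : ∃ d, derivedSeries C d = ⊥ := by
    have : Group.IsNilpotent C := hnil
    have : Group.IsSolvable C := inferInstance
    exact Group.IsSolvable.solvable
  obtain ⟨Uc, hUc⟩ := NormalClosure.exists_unipotent_subgroup ΦK C hCcl (ΦK.isPreconnected_centralizerComp T') hd
  have hUcl : IsClosed (Uc : Set (Pt K)) := by
    have e : (Uc : Set (Pt K)) = (C : Set (Pt K)) ∩ {x | IsNilpotent (ΦK.ρ x - 1)} := Set.ext fun x => hUc x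
    rw [e]
    exact hCcl.inter ΦK.isClosed_isNilpotent
  have hdec : ∀ x ∈ C, ∃ t ∈ T', ∃ z ∈ Uc, x = t * z := by
    intro x hx
    obtain ⟨P, Q, hQP, hup⟩ := (ΦK.restrict C hCcl).exists_upper hd
    let Φ' := (ΦK.restrict C hCcl).conj P Q hQP
    obtain ⟨T₁, h₁, hcov⟩ := Φ'.exists_toral_lift hup
    obtain ⟨t, ht, he⟩ := hcov ⟨x, hx⟩
    have h₁' : ΦK.IsToral (T₁.map C.subtype) := h₁.of_conj.map_subtype
    obtain ⟨T₃, hT₃, hl₁, hl₂⟩ := hT'.exists_sup h₁' (by
      rintro a ha _ ⟨b, -, rfl⟩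
      exact Subgroup.mem_centralizer_iff.1 (ΦK.centralizerComp_le T' b.2) a ha)
    have htT : (t : Pt K) ∈ T' := (hmax T₃ hT₃ hl₁).le (hl₂ ⟨t, ht, rfl⟩)
    refine ⟨t, htT, (t : Pt K)⁻¹ * x, ?_, by rw [mul_inv_cancel_left]⟩
    refine (hUc _).2 ⟨C.mul_mem (C.inv_mem t.2) hx, ?_⟩
    have hz : (t⁻¹ * ⟨x, hx⟩ : C) ∈ Φ'.unipotent hup 1 := Φ'.mem_unipotent_of_diag (by
      rw [map_mul, ← he, ← map_mul, inv_mul_cancel, map_one])
    obtain ⟨m, hm⟩ := (Φ'.mem_unipotent_iff_isNilpotent hup).1 hz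
    have hPQ : P * Q = 1 := mul_eq_one_comm.mp hQP
    refine ⟨m + 1, ?_⟩
    have e : Φ'.ρ (t⁻¹ * ⟨x, hx⟩) - 1 = P * (ΦK.ρ ((t : Pt K)⁻¹ * x) - 1) * Q := by
      rw [mul_sub, sub_mul, _root_.mul_one, hPQ]
      rfl
    have hp : ∀ (A : Matrix (Fin r) (Fin r) k) (j : ℕ), (P * A * Q) ^ j = P * A ^ j * Q := fun A j => by
      induction j with
      | zero => rw [pow_zero, pow_zero, _root_.mul_one, hPQ]
      | succ j ih =>
        rw [pow_succ, ih, pow_succ]
        simp only [_root_.mul_assoc]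
        rw [← _root_.mul_assoc Q P, hQP, _root_.one_mul]
    rw [e, hp] at hm
    have h3 := congrArg (fun M => Q * M * P) hm
    simp only [mul_zero, zero_mul, ← _root_.mul_assoc, hQP, _root_.one_mul] at h3
    simp only [_root_.mul_assoc, hQP, _root_.mul_one] at h3
    rw [pow_succ, h3, zero_mul]
  have hfU : Uc.map f = W := le_antisymm (hfW ▸ Subgroup.map_le_range f Uc) fun w hw => by
    obtain ⟨x, hx, rfl⟩ := (hfC.symm ▸ hw : w ∈ C.map f)
    obtain ⟨t, ht, z, hz, rfl⟩ := hdec x hx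
    exact ⟨z, hz, by rw [map_mul, show f t = 1 from hTker t ht, _root_.one_mul]⟩
  let ΦU := ΦK.restrict Uc hUcl
  have := ΦU.finiteIndex_identityComponent
  let S : Subgroup (Pt K) := ΦU.identityComponent.map Uc.subtype
  have hSU : S ≤ Uc := Subgroup.map_subtype_le _
  have hfS : S.map f = W := by
    have : ((S.map f).subgroupOf W).FiniteIndex := hfU ▸ finiteIndex_map f
    exact eq_of_finiteIndex Ψ hW hWc (hfU ▸ Subgroup.map_mono hSU)
      (isClosed_map (j ≫ π) S (Rep.isClosed_map_subtype hUcl ΦU.isClosed_identityComponent))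
  have hSc : _root_.IsPreconnected (S : Set (Pt K)) := Rep.isPreconnected_map_subtype isPreconnected_connectedComponent
  have hnc := isNilpotent_normalClosure ΦK hΦK iT hT hSc (fun B _ iB _ hB hTB x hx =>
    TorusBorel.centralizer_le iB hB hT' hmax (hTr ▸ hTB) (ΦK.centralizerComp_le T' ((hUc x).1 (hSU hx)).1))
    (fun x hx => ((hUc x).1 (hSU hx)).2)
  let Y : Set (Pt K) := ⋃ g : Pt K, (S.map (MulAut.conj g).toMonoidHom : Set (Pt K))
  obtain ⟨RK, hRK⟩ := ΦK.exists_closure_subgroup (Subgroup.closure Y)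
  obtain ⟨A, _, iA, _, _, _, _, hmemA, hconnA⟩ := exists_sub RK (hRK ▸ isClosed_closure)
  have := hconnA (by
    rw [hRK]
    refine (LieKolchin.preconnected_closure ΦK.good Y ?_ (Set.mem_iUnion.2 ⟨1, Subgroup.one_mem _⟩)).closure
    exact isPreconnected_iUnion ⟨1, Set.mem_iInter.2 fun g => Subgroup.one_mem _⟩ fun g =>
      hSc.image _ ((ΦK.continuous_mul_right g⁻¹).comp (ΦK.good.left g)).continuousOn)
  have : IsAffine A.left := isAffine_of_isAffineHom iA.left
  have : Mono iA := Over.mono_of_mono_left iA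
  have hA : Red.HasNoSubtorus k A := RadicalScheme.hasNoSubtorus_of_isNilpotent ΦK iA fun w => by
    have h : w ≫ iA ∈ (RK : Set (Pt K)) := (hmemA _).2 ⟨w, rfl⟩
    rw [hRK] at h
    exact closure_minimal (fun y hy => hnc y hy) ΦK.isClosed_isNilpotent h
  have : IsClosedImmersion (iA ≫ j).left := by rw [Over.comp_left]; infer_instance
  obtain ⟨⟨n, hn⟩, hAu⟩ := UnipRadical.pts_facts (iA ≫ j) hA
  set R₁ := (ptHom (iA ≫ j)).range with hR₁
  obtain ⟨R, -, hRcl, hRc, hle, hRn, -, hRu⟩ := NormalClosure.exists_normal Φ N₀ hN₀ hN₀n R₁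
    (Density.isClosed_range _) (Density.isPreconnected_range _)
    (by rintro _ ⟨w, rfl⟩; exact (hmemK _).2 ⟨w ≫ iA, Category.assoc _ _ _⟩)
    (by
      rintro g hg _ ⟨w, rfl⟩
      obtain ⟨a, rfl⟩ := (hmemK g).1 hg
      have h1 : a * (w ≫ iA) * a⁻¹ ∈ (RK : Set (Pt K)) := by
        have h : w ≫ iA ∈ (RK : Set (Pt K)) := (hmemA _).2 ⟨w, rfl⟩
        rw [hRK] at h ⊢
        have hY : (Subgroup.closure Y).map (MulAut.conj a).toMonoidHom ≤ Subgroup.closure Y := by
          rw [MonoidHom.map_closure, Subgroup.closure_le]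
          rintro _ ⟨z, hz, rfl⟩
          obtain ⟨g', s, hs, rfl⟩ := Set.mem_iUnion.1 hz
          exact Subgroup.subset_closure (Set.mem_iUnion.2 ⟨a * g', s, hs, by simp [_root_.mul_assoc]⟩)
        exact map_mem_closure (f := fun y : Pt K => a * y * a⁻¹)
          ((ΦK.continuous_mul_right a⁻¹).comp (ΦK.good.left a)) h fun y hy => hY ⟨y, hy, rfl⟩
      obtain ⟨z, hz⟩ := (hmemA _).1 h1
      refine ⟨z, ?_⟩
      show z ≫ iA ≫ j = ptHom j a * (w ≫ iA ≫ j) * (ptHom j a)⁻¹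
      rw [← Category.assoc, hz, ← Category.assoc, MonObj.mul_comp, MonObj.mul_comp, GrpObj.inv_comp]
      rfl)
    (n := n) (by rw [eq_bot_iff, ← map_derivedSeries_eq (MonoidHom.rangeRestrict_surjective _) n, hn, Subgroup.map_bot])
  refine ⟨R, hRcl, hRc, hRn, hRu (fun x hx => hAu Φ x hx), fun w hw => ?_⟩
  obtain ⟨x, hx, rfl⟩ := (hfS.symm ▸ hw : w ∈ S.map f)
  obtain ⟨z, rfl⟩ := (hmemA x).1 (by
    rw [← SetLike.mem_coe, hRK]
    exact subset_closure (Subgroup.subset_closure (Set.mem_iUnion.2 ⟨1, x, hx, by simp⟩)))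
  exact ⟨(z ≫ iA) ≫ j, hle ⟨z, show z ≫ iA ≫ j = (z ≫ iA) ≫ j from (Category.assoc _ _ _).symm⟩,
    show ((z ≫ iA) ≫ j) ≫ π = (z ≫ iA) ≫ j ≫ π from Category.assoc _ _ _⟩

end Groth.Agent.Borel50.Luna.Unip
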