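import Groth.Agent.Borel50.Luna.CentreUnip
import Groth.Agent.GrpScheme.ClosedImage
import Groth.Agent.S19465
import Groth.Prelude.Def_RedSub

/-!
# A torus meets a unipotent subgroup trivially
-/

set_option autoImplicit false
set_option linter.style.haveILetI false
set_option synthInstance.maxHeartbeats 400000
set_option backward.isDefEq.respectTransparency false
set_option backward.isDefEq.respectTransparency.types false
universe u

open CategoryTheory MonoidalCategory CartesianMonoidalCategory MonObj GrpObj AlgebraicGeometry Limits WithConv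
open scoped TensorProduct

noncomputable section

namespace Groth.Agent.Borel50.Luna.UnipInterTorus

open Groth.Agent.Borel50.Pts Groth.Agent.Borel50.Lin Groth.Agent.Borel50.Density Groth.Agent.Borel50.GeomTorus
open Groth.Agent.DiagRig (bcTr bcTr_mul bcTr_map bcTr_injective bcTr_comp bcTr_one)
open Groth.Agent.GrpdLib.AffHomogeneous (specG)

attribute [local instance] UnipLib.algOf ptTop

section Closed

variable {K : Type u} [Field K] [IsAlgClosed K]

/-- Over an algebraically closed field a subgroup of both a torus and a connected unipotent group is trivial. -/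
theorem trivial_closed {T U M : Over (Spec (CommRingCat.of K))} [GrpObj T] [GrpObj U] [GrpObj M]
    [IsAffine U.left] [Smooth U.hom] [ConnectedSpace ↥U.left] (hU : Red.HasNoSubtorus K U) (hT : Red.IsTorus T)
    (p : M ⟶ T) [IsMonHom p] [Mono p] [LocallyOfFiniteType M.hom] [QuasiCompact M.hom]
    (q : M ⟶ U) [IsMonHom q] [Mono q] : IsIso M.hom := by
  have hM : SGA3x.IsMultTypeFT M := MaxTorus.isMultTypeFT_sub (DiagRig.multTypeFT_of_torus hT) p
  obtain ⟨A, hA, e, he⟩ := AffGrp.Bridge.exists_iso (R := CommRingCat.of K) U
  haveI := he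
  haveI : IsMonHom e.inv := inferInstance
  let S := specG (k := K) A
  haveI hiso : IsIso e.hom.left := inferInstanceAs (IsIso ((Over.forget _).map e.hom))
  haveI : Smooth S.hom := by
    have h : Smooth (e.hom.left ≫ U.hom) := inferInstance
    rwa [Over.w] at h
  let hh : U.left ≃ₜ S.left := TopCat.homeoOfIso (Scheme.forgetToTop.mapIso ((Over.forget _).mapIso e.symm))
  haveI : ConnectedSpace S.left := hh.surjective.connectedSpace hh.continuous
  haveI : IsAffine S.left := inferInstanceAs (IsAffine (Spec (CommRingCat.of A)))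
  haveI : Algebra.FiniteType K A := by
    have h' : LocallyOfFiniteType (Spec.map (CommRingCat.ofHom (algebraMap K A))) :=
      inferInstanceAs (LocallyOfFiniteType S.hom)
    rw [HasRingHomProperty.Spec_iff (P := @LocallyOfFiniteType)] at h'
    exact RingHom.finiteType_algebraMap.1 h'
  have hA' : HopfRep.IsUnipotent K A :=
    PRed19.isUnipotent_of_noSubtorus (fun R _ r _ _ hR => hU R (r ≫ e.hom) hR)
  let g := 𝟙 (Spec (CommRingCat.of K))
  have hMg := DiagRig.isMultTypeFT_bc g hM
  let w := q ≫ e.inv
  have := DiagRig.isMonHom_bcMap g w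
  let v : Red.bc g M ⟶ Red.bc g S := (Over.pullback g).map w
  let X := (Over.map g).obj (Red.bc g M)
  have h1 : (GrpdLib.AffHomogeneous.ptEquiv X).symm (bcTr g v) = (1 : WithConv (A →ₐ[K] Γ(X.left, ⊤))) := by
    refine WithConv.ofConv_injective (AlgHom.ext fun a => ?_)
    obtain ⟨n, hn⟩ := Comod.exists_mem_fil (W := A) hA' a
    refine (DiagRig.MTUnip.kills g hMg v hn).trans ?_
    show _ = (1 : WithConv (A →ₐ[K] Γ(X.left, ⊤))) a
    rw [AlgHom.convOne_apply]
  have h2 : bcTr g v = 1 := by
    rw [← (GrpdLib.AffHomogeneous.ptEquiv X).apply_symm_apply (bcTr g v), h1, map_one]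
  have hw : w = 1 := OverField.map_injective g (by
    refine bcTr_injective g (h2.trans ?_)
    have h0 := bcTr_map g (𝟙 (Red.bc g M)) (1 : M ⟶ S)
    rw [Category.id_comp] at h0
    rw [h0, MonObj.comp_one])
  have hq : q = 1 := by rw [← cancel_mono e.inv, MonObj.one_comp]; exact hw
  have h4 : 𝟙 M = (1 : M ⟶ M) := by rw [← cancel_mono q, Category.id_comp, MonObj.one_comp, hq]
  have e1 : toUnit M ≫ η[M] = 𝟙 M := by rw [h4, Hom.one_def]
  exact ⟨(η[M] : 𝟙_ (Over (Spec (CommRingCat.of K))) ⟶ M).left, by
    have := congrArg CommaMorphism.left e1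
    simpa using this, Over.w _⟩

end Closed

variable {S : Scheme.{u}} {G T U : Over S}

theorem main [GrpObj G] [GrpObj T] [GrpObj U] (hG : Red.IsReductive G) (i : T ⟶ G) (hT : Red.IsMaximalTorus i)
    (j : U ⟶ G) (hU : RedSub.IsSubgrp j) [Smooth U.hom]
    (hfib : ∀ s : S, ConnectedSpace ↥(Red.geomFibre s U).left ∧
      Red.HasNoSubtorus (AlgebraicClosure (S.residueField s)) (Red.geomFibre s U))
    (X : Over S) (y : X ⟶ U) (x : X ⟶ T) (h : y ≫ j = x ≫ i) : y = 1 := by
  have := hT.1
  have := hT.2.1
  have := hU.1
  have := hU.2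
  have : Mono j := Over.mono_of_mono_left _
  have hTm := DiagRig.multTypeFT_of_torus hT.2.2.1
  let M := pullback i j
  let p : M ⟶ T := pullback.fst _ _
  let q : M ⟶ U := pullback.snd _ _
  have hw : p ≫ i = q ≫ j := pullback.condition
  obtain ⟨_, _⟩ : ∃ _ : GrpObj M, IsMonHom p := by
    refine GrpScheme.SubgroupObj.exists_grpObj p ?_ ?_ ?_
    · exact ⟨pullback.lift ((p ⊗ₘ p) ≫ μ) ((q ⊗ₘ q) ≫ μ) (by
        rw [Category.assoc, Category.assoc, IsMonHom.mul_hom, IsMonHom.mul_hom,
          tensorHom_comp_tensorHom_assoc, tensorHom_comp_tensorHom_assoc, hw]), pullback.lift_fst _ _ _⟩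
    · exact ⟨pullback.lift η η (by rw [IsMonHom.one_hom, IsMonHom.one_hom]), pullback.lift_fst _ _ _⟩
    · exact ⟨pullback.lift (p ≫ ι) (q ≫ ι) (by
        rw [Category.assoc, Category.assoc, GrpObj.inv_hom, GrpObj.inv_hom, reassoc_of% hw]), pullback.lift_fst _ _ _⟩
  have : IsMonHom q :=
    { one_hom := by
        rw [← cancel_mono j, Category.assoc, ← hw, ← Category.assoc,
          IsMonHom.one_hom p, IsMonHom.one_hom i, IsMonHom.one_hom j]
      mul_hom := by
        rw [← cancel_mono j, Category.assoc, ← hw, ← Category.assoc,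
          IsMonHom.mul_hom p, Category.assoc, IsMonHom.mul_hom i, Category.assoc, IsMonHom.mul_hom j,
          tensorHom_comp_tensorHom_assoc, tensorHom_comp_tensorHom_assoc, hw] }
  have : IsImmersion p.left := MorphismProperty.of_isPullback (P := @IsImmersion)
    ((IsPullback.of_hasPullback i j).flip.map (Over.forget _)) ‹_›
  have := DiagRig.multType_locallyOfFiniteType T hTm
  have : LocallyOfFiniteType M.hom := by rw [← Over.w p]; infer_instance
  have hMh : IsIso M.hom := by
    refine (S19465.result S M).2 fun s => ?_
    let K := AlgebraicClosure (S.residueField s)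
    let g : Spec (CommRingCat.of K) ⟶ S := Red.geomPt s
    let UK : Over (Spec (CommRingCat.of K)) := Red.bc g U
    let TK : Over (Spec (CommRingCat.of K)) := Red.bc g T
    let MK : Over (Spec (CommRingCat.of K)) := Red.bc g M
    let GK : Over (Spec (CommRingCat.of K)) := Red.bc g G
    have : IsAffine GK.left := (hG.2.2 s).1
    have : Smooth GK.hom := (hG.2.2 s).2.1
    have : Smooth UK.hom := inferInstanceAs (Smooth (pullback.snd U.hom g))
    have : ConnectedSpace ↥UK.left := (hfib s).1
    let jK : UK ⟶ GK := (Over.pullback g).map j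
    have : IsMonHom jK := DiagRig.isMonHom_bcMap g j
    have : IsImmersion jK.left := LimGrp.property_map @IsImmersion g j hU.2
    have : IsLocallyNoetherian GK.left := LocallyOfFiniteType.isLocallyNoetherian GK.hom
    have : IsNoetherian GK.left := {}
    have : CompactSpace ↥UK.left := by
      have : TopologicalSpace.NoetherianSpace ↥UK.left := jK.left.isEmbedding.isInducing.noetherianSpace
      infer_instance
    have : QuasiCompact jK.left := quasiCompact_of_compactSpace jK.left
    have : IsClosedImmersion jK.left := IsClosedImmersion.of_isPreimmersion jK.left (GrpScheme.ClosedImage.isClosed_range jK)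
    have : IsAffine UK.left := isAffine_of_isAffineHom jK.left
    let pK : MK ⟶ TK := (Over.pullback g).map p
    let qK : MK ⟶ UK := (Over.pullback g).map q
    have : IsMonHom pK := DiagRig.isMonHom_bcMap g p
    have : IsMonHom qK := DiagRig.isMonHom_bcMap g q
    have : Mono q := MorphismProperty.of_isPullback (P := MorphismProperty.monomorphisms _)
      (IsPullback.of_hasPullback i j) (show Mono i from inferInstance)
    have : Mono pK := PRed19.mono_map g p
    have : Mono qK := PRed19.mono_map g q
    have : IsImmersion pK.left := LimGrp.property_map @IsImmersion g p ‹_›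
    have hTK : Red.IsTorus TK := AbSch51.TorusToProper.isTorus_bc g hT.2.2.1
    obtain ⟨_, _, _, _, -, -⟩ := TorusSch.torus_facts hTK
    have : IsLocallyNoetherian TK.left := LocallyOfFiniteType.isLocallyNoetherian TK.hom
    have : IsNoetherian TK.left := {}
    have : CompactSpace ↥MK.left := by
      have : TopologicalSpace.NoetherianSpace ↥MK.left := pK.left.isEmbedding.isInducing.noetherianSpace
      infer_instance
    have : QuasiCompact MK.hom := quasiCompact_of_compactSpace MK.hom
    have : LocallyOfFiniteType MK.hom := inferInstanceAs (LocallyOfFiniteType (pullback.snd M.hom g))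
    have h1 : IsIso MK.hom := trivial_closed (hfib s).2 hTK pK qK
    -- descend to the fibre
    let a : Spec (CommRingCat.of K) ⟶ Spec (CommRingCat.of (S.residueField s)) :=
      Spec.map (CommRingCat.ofHom (algebraMap (S.residueField s) K))
    have h2 : IsIso (pullback.snd (pullback.snd M.hom (S.fromSpecResidueField s)) a) := by
      have e2 := pullbackLeftPullbackSndIso_hom_snd M.hom (S.fromSpecResidueField s) a
      rw [← e2]
      have : IsIso (pullback.snd M.hom (a ≫ S.fromSpecResidueField s)) := h1
      infer_instance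
    have : Surjective a := ⟨fun z => ⟨default, Subsingleton.elim (α := PrimeSpectrum (S.residueField s)) _ _⟩⟩
    have : Flat a := by
      rw [HasRingHomProperty.Spec_iff (P := @Flat)]
      exact RingHom.flat_algebraMap_iff.2 inferInstance
    exact MorphismProperty.of_pullback_snd_of_descendsAlong (P := MorphismProperty.isomorphisms Scheme)
      (Q := @Surjective ⊓ @Flat ⊓ @QuasiCompact) (g := a)
      (f := pullback.snd M.hom (S.fromSpecResidueField s)) ⟨⟨inferInstance, inferInstance⟩, inferInstance⟩ h2
  let m : X ⟶ M := pullback.lift x y h.symm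
  have hm : m = 1 := by
    refine Over.OverMorphism.ext ?_
    rw [← cancel_mono M.hom, Over.w, Over.w]
  rw [show y = m ≫ q from (pullback.lift_snd _ _ _).symm, hm, MonObj.one_comp]

end Groth.Agent.Borel50.Luna.UnipInterTorus
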