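import Mathlib
import Groth.Agent.LieKolchin.Basic

/-!
# Cones stable under a torus: extremal weight components, and finite level sets of separating linear forms
-/

set_option autoImplicit false
universe u v

open MvPolynomial
open scoped Matrix

noncomputable section

namespace Groth.Agent.Borel50.Luna

variable {k : Type u} [Field k] {n : ℕ}

/-- A set of vectors cut out by polynomials. -/
def IsZCl (C : Set (Fin n → k)) : Prop :=
  ∀ w, (∀ q : MvPolynomial (Fin n) k, (∀ x ∈ C, eval x q = 0) → eval w q = 0) → w ∈ C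

/-- The component of extremal weight of a vector lies in every closed cone stable under the torus. -/
theorem mem_top [Infinite k] {M : Type v} [Monoid M] (χ : Fin n → M →* k) {L : Type*} [AddCommGroup L] [LinearOrder L]
    [IsOrderedAddMonoid L] (rk : Fin n → L)
    (hrk : ∀ a b : Fin n → ℕ, (∀ t, ∏ i, χ i t ^ a i = ∏ i, χ i t ^ b i) → ∑ i, a i • rk i = ∑ i, b i • rk i)
    {Z : Set (Fin n → k)} (hZ : IsZCl Z) (w : Fin n → k)
    (hw : ∀ (c : k) (t : M), (fun i => c * (χ i t * w i)) ∈ Z) (μ : L) (hμ : ∀ i, w i ≠ 0 → rk i ≤ μ) :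
    (fun i => if rk i = μ then w i else 0) ∈ Z := by
  classical
  set top : Fin n → k := fun i => if rk i = μ then w i else 0 with htop
  refine hZ top fun q hq => ?_
  let deg : (Fin n →₀ ℕ) → ℕ := fun a => ∑ i, a i
  let φ : (Fin n →₀ ℕ) → (k × M →* k) := fun a =>
    (powMonoidHom (deg a)).comp (MonoidHom.fst k M) * (∏ i, χ i ^ a i).comp (MonoidHom.snd k M)
  have hφ : ∀ a (c : k) (t : M), φ a (c, t) = c ^ deg a * ∏ i, χ i t ^ a i := fun a c t => by
    simp [φ, MonoidHom.finsetProd_apply]
  have hinj : ∀ a b, φ a = φ b → deg a = deg b ∧ ∑ i, a i • rk i = ∑ i, b i • rk i := fun a b h => by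
    refine ⟨?_, hrk _ _ fun t => ?_⟩
    · by_contra hne
      have hp : (Polynomial.X ^ deg a - Polynomial.X ^ deg b : Polynomial k) ≠ 0 := fun h0 => hne (by
        have := congrArg Polynomial.natDegree (sub_eq_zero.1 h0)
        simpa using this)
      refine hp (Polynomial.funext fun c => ?_)
      have := DFunLike.congr_fun h (c, 1)
      rw [hφ, hφ] at this
      simp only [map_one, one_pow, Finset.prod_const_one, _root_.mul_one] at this
      simp [this]
    · have := DFunLike.congr_fun h (1, t)
      rwa [hφ, hφ, one_pow, one_pow, _root_.one_mul, _root_.one_mul] at this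
  let cw : (Fin n →₀ ℕ) → k := fun a => q.coeff a * ∏ i, w i ^ a i
  have hfib : ∀ ψ ∈ q.support.image φ, ∑ a ∈ q.support with φ a = ψ, cw a = 0 := by
    have h0 : ∑ ψ ∈ q.support.image φ, (∑ a ∈ q.support with φ a = ψ, cw a) • (ψ : k × M → k) = 0 := by
      refine funext fun ct => ?_
      obtain ⟨c, t⟩ := ct
      rw [Finset.sum_apply, Pi.zero_apply]
      calc _ = ∑ ψ ∈ q.support.image φ, ∑ a ∈ q.support with φ a = ψ, cw a * φ a (c, t) :=
            Finset.sum_congr rfl fun ψ _ => by
              rw [Pi.smul_apply, smul_eq_mul, Finset.sum_mul]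
              exact Finset.sum_congr rfl fun a ha => by rw [(Finset.mem_filter.1 ha).2]
        _ = ∑ a ∈ q.support, cw a * φ a (c, t) :=
            Finset.sum_fiberwise_of_maps_to (fun a ha => Finset.mem_image_of_mem φ ha) _
        _ = eval (fun i => c * (χ i t * w i)) q := by
            rw [eval_eq']
            refine Finset.sum_congr rfl fun a _ => ?_
            rw [hφ]
            simp only [cw, deg, mul_pow, Finset.prod_mul_distrib, Finset.prod_pow_eq_pow_sum]
            ring
        _ = 0 := hq _ (hw c t)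
    exact linearIndependent_iff'.1 (linearIndependent_monoidHom (k × M) k) (q.support.image φ) _ h0
  -- monomials of a single fibre behave alike
  have htop' : ∀ a, (∏ i, w i ^ a i) ≠ 0 →
      (∏ i, top i ^ a i) = if ∑ i, a i • rk i = deg a • μ then ∏ i, w i ^ a i else 0 := fun a ha => by
    have hs : ∀ i, a i • rk i ≤ a i • μ := fun i => by
      rcases Nat.eq_zero_or_pos (a i) with h | h
      · simp [h]
      · refine nsmul_le_nsmul_right (hμ i fun h0 => ha ?_) _
        exact Finset.prod_eq_zero (Finset.mem_univ i) (by rw [h0, zero_pow h.ne'])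
    have hsum : deg a • μ = ∑ i, a i • μ := Finset.sum_smul
    by_cases hgood : ∀ i, a i ≠ 0 → rk i = μ
    · rw [if_pos]
      · refine Finset.prod_congr rfl fun i _ => ?_
        rcases eq_or_ne (a i) 0 with h | h
        · simp [h]
        · simp [htop, hgood i h]
      · rw [hsum]
        refine Finset.sum_congr rfl fun i _ => ?_
        rcases eq_or_ne (a i) 0 with h | h
        · simp [h]
        · rw [hgood i h]
    · push Not at hgood
      obtain ⟨i, hi, hne⟩ := hgood
      rw [if_neg, Finset.prod_eq_zero (Finset.mem_univ i) (by simp [htop, hne, zero_pow hi])]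
      rw [hsum]
      refine (Finset.sum_lt_sum (fun j _ => hs j) ⟨i, Finset.mem_univ i, ?_⟩).ne
      have hwi : w i ≠ 0 := fun h0 => ha (Finset.prod_eq_zero (Finset.mem_univ i) (by rw [h0, zero_pow hi]))
      exact nsmul_lt_nsmul_right hi (lt_of_le_of_ne (hμ i hwi) hne)
  rw [eval_eq', ← Finset.sum_fiberwise_of_maps_to (fun a ha => Finset.mem_image_of_mem φ ha)]
  refine Finset.sum_eq_zero fun ψ hψ => ?_
  by_cases hG : ∃ b, φ b = ψ ∧ (∏ i, w i ^ b i) ≠ 0 ∧ ∑ i, b i • rk i = deg b • μ
  · obtain ⟨b, hb, -, hbμ⟩ := hG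
    rw [← hfib ψ hψ]
    refine Finset.sum_congr rfl fun a ha => ?_
    show q.coeff a * ∏ i, top i ^ a i = q.coeff a * ∏ i, w i ^ a i
    rcases eq_or_ne (∏ i, w i ^ a i) 0 with h | h
    · obtain ⟨i, -, hi⟩ := Finset.prod_eq_zero_iff.1 h
      obtain ⟨hi0, hai⟩ := pow_eq_zero_iff'.1 hi
      rw [h, Finset.prod_eq_zero (Finset.mem_univ i) (by simp [htop, hi0, zero_pow hai])]
    · obtain ⟨hd, he⟩ := hinj a b ((Finset.mem_filter.1 ha).2.trans hb.symm)
      rw [htop' a h, if_pos (by rw [he, hd, hbμ])]
  · refine Finset.sum_eq_zero fun a ha => ?_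
    rcases eq_or_ne (∏ i, w i ^ a i) 0 with h | h
    · obtain ⟨i, -, hi⟩ := Finset.prod_eq_zero_iff.1 h
      obtain ⟨hi0, hai⟩ := pow_eq_zero_iff'.1 hi
      rw [Finset.prod_eq_zero (Finset.mem_univ i) (by simp [htop, hi0, zero_pow hai]), mul_zero]
    · rw [htop' a h, if_neg fun he => hG ⟨a, (Finset.mem_filter.1 ha).2, h, he⟩, mul_zero]

/-- An order on the characters of a connected diagonal group. -/
theorem exists_rank {T : Type v} [Group T] [TopologicalSpace T] [PreconnectedSpace T] (χ : Fin n → T →* k)
    (hcl : ∀ q : MvPolynomial (Fin n) k, IsClosed {t | eval (fun i => χ i t) q = 0}) :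
    ∃ (r : ℕ) (rk : Fin n → Lex (Fin r → ℤ)),
      (∀ a b : Fin n → ℕ, (∀ t, ∏ i, χ i t ^ a i = ∏ i, χ i t ^ b i) → ∑ i, a i • rk i = ∑ i, b i • rk i) ∧
      ∀ i j, rk i = rk j → χ i = χ j := by
  classical
  let u : Fin n → Additive (T → kˣ) := fun i => Additive.ofMul fun t => (χ i).toHomUnits t
  let f : (Fin n → ℤ) →ₗ[ℤ] Additive (T → kˣ) := Fintype.linearCombination ℤ u
  let K := LinearMap.range f
  have hval : ∀ (z : Fin n → ℤ) (t : T), ((Additive.toMul (f z) t : kˣ) : k) = ∏ i, χ i t ^ z i := fun z t => by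
    simp [f, u, Fintype.linearCombination_apply, toMul_sum, toMul_zsmul, Finset.prod_apply,
      MonoidHom.coe_toHomUnits]
  have hne : ∀ i t, χ i t ≠ 0 := fun i t => ((Group.isUnit t).map (χ i)).ne_zero
  have htors : ∀ (z : Fin n → ℤ) (m : ℕ), m ≠ 0 → m • f z = 0 → f z = 0 := fun z m hm h => by
    have hm1 : ∀ t, ((Additive.toMul (f z) t : kˣ) : k) ^ m = 1 := fun t => by
      have := congrArg (fun x : Additive (T → kˣ) => ((Additive.toMul x t : kˣ) : k)) h
      simpa [toMul_nsmul] using this
    let φ : T → k := fun t => ∏ i, χ i t ^ z i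
    have hfin : (Set.range φ).Finite := (Polynomial.nthRoots m (1 : k)).toFinset.finite_toSet.subset (by
      rintro _ ⟨t, rfl⟩
      rw [Finset.mem_coe, Multiset.mem_toFinset, Polynomial.mem_nthRoots (Nat.pos_of_ne_zero hm)]
      have := hm1 t
      rwa [hval] at this)
    have hfc : ∀ c, IsClosed (φ ⁻¹' {c}) := fun c => by
      convert hcl (∏ i, X i ^ (z i).toNat - C c * ∏ i, X i ^ (-z i).toNat) using 1
      ext t
      have e : φ t = (∏ i, χ i t ^ (z i).toNat) / ∏ i, χ i t ^ (-z i).toNat := by
        rw [← Finset.prod_div_distrib]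
        refine Finset.prod_congr rfl fun i _ => ?_
        rw [← zpow_natCast, ← zpow_natCast, ← zpow_sub₀ (hne i t)]
        congr 1
        omega
      have hd : (∏ i, χ i t ^ (-z i).toNat) ≠ 0 :=
        Finset.prod_ne_zero_iff.2 fun i _ => pow_ne_zero _ (hne i t)
      simp only [Set.mem_preimage, Set.mem_singleton_iff, Set.mem_ofPred_eq, map_sub, map_mul, map_prod, map_pow,
        eval_X, eval_C]
      rw [e, div_eq_iff hd, sub_eq_zero]
    refine Additive.toMul.injective (funext fun t => Units.ext ?_)
    have h1 := LieKolchin.eq_of_finite_values φ hfin hfc t 1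
    rw [hval]
    show φ t = _
    rw [h1]
    simp [φ]
  have : IsAddTorsionFree K := ⟨fun m hm x y hxy => by
    obtain ⟨z, hz⟩ := (x - y).2
    have h0 : m • (x - y) = 0 := by rw [smul_sub]; exact sub_eq_zero.2 hxy
    have h1 : (((x - y : K) : Additive (T → kˣ))) = 0 := by
      rw [← hz]
      exact htors z m hm (by rw [hz, ← Submodule.coe_smul_of_tower, h0]; rfl)
    exact sub_eq_zero.1 (Subtype.ext h1)⟩
  let b := Module.finBasis ℤ K
  let g : K →+ Lex (Fin (Module.finrank ℤ K) → ℤ) :=
    { toFun := fun x => toLex (b.equivFun x)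
      map_zero' := by rw [map_zero]; rfl
      map_add' := fun x y => by rw [map_add]; rfl }
  let U : Fin n → K := fun i => ⟨u i, Pi.single i 1, by simp [f, Fintype.linearCombination_apply_single]⟩
  refine ⟨_, fun i => g (U i), fun a c h => ?_, fun i j h => ?_⟩
  · simp only [← map_nsmul, ← map_sum]
    congr 1
    refine Subtype.ext (Additive.toMul.injective (funext fun t => Units.ext ?_))
    simpa [U, u, toMul_sum, toMul_nsmul, Finset.prod_apply, MonoidHom.coe_toHomUnits] using h t
  · have h1 : U i = U j := b.equivFun.injective (toLex.injective h)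
    have h2 : (fun t => (χ i).toHomUnits t) = fun t => (χ j).toHomUnits t :=
      Additive.ofMul.injective (congrArg Subtype.val h1)
    refine MonoidHom.ext fun t => ?_
    simpa using congrArg (fun φ : T → kˣ => ((φ t : kˣ) : k)) h2

/-- A homogeneous component of the product with a linear form. -/
lemma homogeneousComponent_mul_linear {σ : Type*} (g : MvPolynomial σ k) {l : MvPolynomial σ k} (hl : l.IsHomogeneous 1)
    (m : ℕ) : homogeneousComponent (m + 1) (g * l) = homogeneousComponent m g * l := by
  conv_lhs => rw [← sum_homogeneousComponent g, Finset.sum_mul, map_sum]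
  rw [Finset.sum_eq_single m]
  · exact homogeneousComponent_eq_self ((homogeneousComponent_isHomogeneous m g).mul hl)
  · intro e _ he
    rw [homogeneousComponent_of_mem ((homogeneousComponent_isHomogeneous e g).mul hl), if_neg (by omega)]
  · intro hm
    rw [homogeneousComponent_eq_zero m g (by simpa using hm), zero_mul, map_zero]

/-- Linear forms without common zero on a closed cone have finite level sets. -/
theorem finite_fibre [IsAlgClosed k] {C : Set (Fin n → k)} (hC : IsZCl C)
    (hcone : ∀ (c : k), ∀ x ∈ C, c • x ∈ C) (F : Set (Fin n → k))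
    (h : ∀ x ∈ C, (∀ f ∈ F, f ⬝ᵥ x = 0) → x = 0) (v : Fin n → k) :
    {x | x ∈ C ∧ ∀ f ∈ F, f ⬝ᵥ x = f ⬝ᵥ v}.Finite := by
  classical
  set A : Set (Fin n → k) := {x | x ∈ C ∧ ∀ f ∈ F, f ⬝ᵥ x = f ⬝ᵥ v}
  let lin : (Fin n → k) → MvPolynomial (Fin n) k := fun f => ∑ i, MvPolynomial.C (f i) * X i
  have hlin : ∀ f x, eval x (lin f) = f ⬝ᵥ x := fun f x => by simp [lin, dotProduct]
  have hlinh : ∀ f, (lin f).IsHomogeneous 1 := fun f =>
    IsHomogeneous.sum _ _ _ fun i _ => (isHomogeneous_X k i).C_mul _
  let IC : Ideal (MvPolynomial (Fin n) k) := vanishingIdeal k C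
  let J : Ideal (MvPolynomial (Fin n) k) := IC ⊔ Ideal.span (lin '' F)
  have hzero : ∀ x ∈ zeroLocus k J, x = 0 := fun x hx => by
    have hev : ∀ p ∈ J, eval x p = 0 := fun p hp => by
      have := hx p hp
      rwa [aeval_eq_eval] at this
    refine h x (hC x fun q hq => hev q (Ideal.mem_sup_left fun y hy => ?_)) fun f hf => ?_
    · rw [aeval_eq_eval]; exact hq y hy
    · rw [← hlin]; exact hev _ (Ideal.mem_sup_right (Ideal.subset_span ⟨f, hf, rfl⟩))
  have hpow : ∀ i, ∃ M : ℕ, X i ^ (M + 1) ∈ J := fun i => by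
    have hmem : (X i : MvPolynomial (Fin n) k) ∈ J.radical := by
      rw [← vanishingIdeal_zeroLocus_eq_radical (K := k)]
      intro x hx
      rw [hzero x hx]
      simp
    obtain ⟨m, hm⟩ := hmem
    exact ⟨m, by rw [pow_succ]; exact Ideal.mul_mem_right _ _ hm⟩
  have hcomp : ∀ p ∈ IC, ∀ d, ∀ x ∈ C, eval x (homogeneousComponent d p) = 0 := fun p hp d x hx => by
    let P : Polynomial k := ∑ e ∈ Finset.range (p.totalDegree + 1),
      Polynomial.C (eval x (homogeneousComponent e p)) * Polynomial.X ^ e
    have hP : P = 0 := Polynomial.funext fun c => by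
      have h1 : eval (c • x) p = 0 := by
        have := hp _ (hcone c x hx)
        rwa [aeval_eq_eval] at this
      rw [Polynomial.eval_zero, ← h1]
      conv_rhs => rw [← sum_homogeneousComponent p]
      simp only [P, Polynomial.eval_finsetSum, map_sum, Polynomial.eval_mul, Polynomial.eval_C, Polynomial.eval_pow,
        Polynomial.eval_X]
      refine Finset.sum_congr rfl fun e _ => ?_
      rw [eval_eq', eval_eq', Finset.sum_mul]
      refine Finset.sum_congr rfl fun a ha => ?_
      have hd : ∑ i, a i = e := by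
        have := (homogeneousComponent_isHomogeneous e p).degree_eq_sum_deg_support ha
        rw [this]
        exact (Finset.sum_subset (Finset.subset_univ _) fun i _ hi => Finsupp.notMem_support_iff.1 hi).symm
      simp only [Pi.smul_apply, smul_eq_mul, mul_pow, Finset.prod_mul_distrib, Finset.prod_pow_eq_pow_sum, hd]
      ring
    by_cases hd : d ∈ Finset.range (p.totalDegree + 1)
    · simpa [P, Polynomial.finsetSum_coeff, hd] using congrArg (fun Q : Polynomial k => Q.coeff d) hP
    · rw [homogeneousComponent_eq_zero d p (by simpa using hd), map_zero]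
  choose M hM using hpow
  have hred : ∀ i, ∃ r : MvPolynomial (Fin n) k, r.totalDegree ≤ M i ∧ ∀ x ∈ A, x i ^ (M i + 1) = eval x r := fun i => by
    obtain ⟨a, ha, b, hb, hab⟩ := Submodule.mem_sup.1 (hM i)
    obtain ⟨m, g, fs, hsum⟩ := Submodule.mem_span_set'.1 hb
    choose fv hfv hfe using fun l : Fin m => (fs l).2
    refine ⟨∑ l, MvPolynomial.C (fv l ⬝ᵥ v) * homogeneousComponent (M i) (g l), ?_, fun x hx => ?_⟩
    · refine (totalDegree_finsetSum _ _).trans (Finset.sup_le fun l _ => ?_)
      exact ((homogeneousComponent_isHomogeneous _ _).C_mul _).totalDegree_le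
    · have e := congrArg (fun P => eval x (homogeneousComponent (M i + 1) P)) hab
      simp only [map_add] at e
      rw [hcomp a ha _ x hx.1, zero_add,
        homogeneousComponent_eq_self (isHomogeneous_X_pow (R := k) i (M i + 1)), map_pow, eval_X, ← hsum] at e
      rw [← e]
      simp only [map_sum, smul_eq_mul, map_mul, eval_C, ← hfe]
      refine Finset.sum_congr rfl fun l _ => ?_
      rw [← hx.2 _ (hfv l), ← hlin, ← map_mul]
      congr 1
      rw [homogeneousComponent_mul_linear (g l) (hlinh (fv l)), _root_.mul_comm]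
  let D := ∑ i, M i
  let E : MvPolynomial (Fin n) k →ₗ[k] (A → k) := LinearMap.pi fun x : A => (aeval (x : Fin n → k)).toLinearMap
  have hE : ∀ p (x : A), E p x = eval (x : Fin n → k) p := fun p x => by simp [E, aeval_eq_eval]
  let V := (restrictTotalDegree (Fin n) k D).map E
  have hall : ∀ d : ℕ, ∀ p : MvPolynomial (Fin n) k, p.totalDegree ≤ d → E p ∈ V := by
    intro d
    induction d using Nat.strong_induction_on with
    | _ d ih =>
      intro p hp
      rw [p.as_sum, map_sum]
      refine Submodule.sum_mem _ fun a ha => ?_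
      have had : ∑ i, a i ≤ d := by
        refine le_trans ?_ ((le_totalDegree ha).trans hp)
        exact (Finsupp.sum_fintype a (fun _ e => e) fun _ => rfl).ge
      by_cases hD : ∑ i, a i ≤ D
      · refine ⟨monomial a (p.coeff a), (mem_restrictTotalDegree _ _ _).2 ((totalDegree_monomial_le _ _).trans ?_), rfl⟩
        exact (Finsupp.sum_fintype a (fun _ e => e) fun _ => rfl).le.trans hD
      obtain ⟨i, hi⟩ : ∃ i, M i + 1 ≤ a i := by
        by_contra hne
        push Not at hne
        exact hD (Finset.sum_le_sum fun i _ => Nat.lt_succ_iff.1 (hne i))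
      obtain ⟨r, hr, hrA⟩ := hred i
      let b : Fin n →₀ ℕ := a - Finsupp.single i (M i + 1)
      have hab : a = b + Finsupp.single i (M i + 1) := by
        ext l
        rcases eq_or_ne l i with rfl | hl
        · simp [b]; omega
        · simp [b, Finsupp.single_apply, hl.symm]
      have hdeg : ∑ l, a l = ∑ l, b l + (M i + 1) := by
        conv_lhs => rw [hab]
        simp [Finset.sum_add_distrib, Finsupp.single_apply]
      have heq : E (monomial a (p.coeff a)) = E (monomial b (p.coeff a) * r) := funext fun x => by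
        rw [hE, hE, map_mul, ← hrA _ x.2]
        rw [← eval_X (f := (x : Fin n → k)) i, ← map_pow, ← map_mul, X_pow_eq_monomial, monomial_mul, _root_.mul_one,
          ← hab]
      rw [heq]
      have htd : (monomial b (p.coeff a) * r).totalDegree ≤ ∑ l, b l + M i :=
        (totalDegree_mul _ _).trans (add_le_add
          ((totalDegree_monomial_le _ _).trans (Finsupp.sum_fintype b (fun _ e => e) fun _ => rfl).le) hr)
      exact ih _ (by omega) _ htd
  have hcoord : ∀ i, ((fun x : Fin n → k => x i) '' A).Finite := fun i => by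
    have hdep : ¬ LinearIndependent k fun m : ℕ => (⟨E (X i ^ m), hall _ _ le_rfl⟩ : V) := fun hl => by
      have := hl.finite
      exact not_finite ℕ
    rw [linearIndependent_iff'] at hdep
    push Not at hdep
    obtain ⟨s, c, hsum, m₀, hm₀, hc⟩ := hdep
    let P : Polynomial k := ∑ m ∈ s, Polynomial.C (c m) * Polynomial.X ^ m
    have hP : P ≠ 0 := fun h0 => hc (by
      have := congrArg (fun Q : Polynomial k => Q.coeff m₀) h0
      simpa [P, Polynomial.finsetSum_coeff, hm₀] using this)
    refine P.roots.toFinset.finite_toSet.subset ?_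
    rintro _ ⟨x, hx, rfl⟩
    rw [Finset.mem_coe, Multiset.mem_toFinset, Polynomial.mem_roots hP]
    have := congrFun (congrArg Subtype.val hsum) ⟨x, hx⟩
    simpa [P, Polynomial.IsRoot, Polynomial.eval_finsetSum, hE, Submodule.coe_sum] using this
  exact (Set.Finite.pi fun i => hcoord i).subset fun x hx i _ => ⟨x, hx, rfl⟩

end Groth.Agent.Borel50.Luna
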